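/-
Jordan types of nilpotent endomorphisms: products, single blocks, the block matrix model, and the parity
of the ranks of the powers of `A - 1` for an isometry `A` of an alternating or symmetric form.
-/
import Cfsg.Prelude.Def_JordanBlocks
import Cfsg.Agent.Lib.LinRep.JordanType
import Cfsg.Agent.Lib.UnipClasses.Basic
import Cfsg.Agent.Lib.RegNilp.Basic
import Cfsg.Agent.Lib.Forms.SympTwo

set_option autoImplicit false
set_option linter.unusedSectionVars false

namespace Cfsg.Agent.UnipForms

open LinRep.JordanType Module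

variable {F : Type*} [Field F]
variable {V : Type*} [AddCommGroup V] [Module F V] [FiniteDimensional F V]
variable {W : Type*} [AddCommGroup W] [Module F W] [FiniteDimensional F W]

theorem rankDim_eq_range (N : Module.End F V) (k : ℕ) :
    rankDim N ⊤ k = finrank F (LinearMap.range (N ^ k)) := by
  rw [rankDim, Submodule.map_top]

theorem rankDim_zero (N : Module.End F V) : rankDim N ⊤ 0 = finrank F V := by
  rw [rankDim_eq_range, pow_zero, Module.End.one_eq_id, LinearMap.range_id, finrank_top]

theorem prodMap_pow (f : Module.End F V) (g : Module.End F W) :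
    ∀ k : ℕ, (f.prodMap g) ^ k = (f ^ k).prodMap (g ^ k)
  | 0 => by simp
  | k + 1 => by rw [pow_succ, pow_succ, pow_succ, prodMap_pow f g k, LinearMap.prodMap_mul]

theorem finrank_range_prodMap (f : Module.End F V) (g : Module.End F W) :
    finrank F (LinearMap.range (f.prodMap g)) =
      finrank F (LinearMap.range f) + finrank F (LinearMap.range g) := by
  have h := (f.prodMap g).finrank_range_add_finrank_ker
  have hf := f.finrank_range_add_finrank_ker
  have hg := g.finrank_range_add_finrank_ker
  have hk : finrank F (LinearMap.ker (f.prodMap g)) =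
      finrank F (LinearMap.ker f) + finrank F (LinearMap.ker g) := by
    rw [LinearMap.ker_prodMap, ← Module.finrank_prod]
    exact LinearEquiv.finrank_eq
      { toFun := fun x => (⟨x.1.1, x.2.1⟩, ⟨x.1.2, x.2.2⟩)
        invFun := fun y => ⟨(y.1.1, y.2.1), y.1.2, y.2.2⟩
        map_add' := fun _ _ => rfl
        map_smul' := fun _ _ => rfl
        left_inv := fun _ => rfl
        right_inv := fun _ => rfl }
  rw [Module.finrank_prod] at h
  omega

theorem hasType_prod {f : Module.End F V} {g : Module.End F W} {μ ν : Multiset ℕ}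
    (hf : HasType f μ) (hg : HasType g ν) : HasType (f.prodMap g) (μ + ν) := fun k => by
  rw [rankDim_eq_range, prodMap_pow, finrank_range_prodMap, ← rankDim_eq_range, ← rankDim_eq_range,
    hf k, hg k, Multiset.map_add, Multiset.sum_add]

theorem isNilpotent_prodMap {f : Module.End F V} {g : Module.End F W}
    (hf : IsNilpotent f) (hg : IsNilpotent g) : IsNilpotent (f.prodMap g) := by
  obtain ⟨a, ha⟩ := hf
  obtain ⟨b, hb⟩ := hg
  exact ⟨a + b, by
    rw [prodMap_pow, pow_add, ha, zero_mul, pow_add, hb, mul_zero]; exact LinearMap.prodMap_zero⟩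

theorem hasType_conj {N : Module.End F V} {M : Module.End F W} (L : V ≃ₗ[F] W)
    (h : ∀ v, L (N v) = M (L v)) {μ : Multiset ℕ} (hμ : HasType N μ) : HasType M μ := fun k => by
  rw [← UnipClasses.rankDim_conj L h k, hμ k]

theorem isNilpotent_conj {N : Module.End F V} {M : Module.End F W} (L : V ≃ₗ[F] W)
    (h : ∀ v, L (N v) = M (L v)) (hN : IsNilpotent N) : IsNilpotent M := by
  obtain ⟨k, hk⟩ := hN
  refine ⟨k, LinearMap.ext fun w => ?_⟩
  obtain ⟨v, rfl⟩ := L.surjective w
  rw [← UnipClasses.pow_conj L h k v, hk, LinearMap.zero_apply, map_zero, LinearMap.zero_apply]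

/-- Multiplying by a commuting unit does not change the ranks of the powers. -/
theorem hasType_mul_unit {N U : Module.End F V} (hU : IsUnit U) (hc : Commute N U) {μ : Multiset ℕ}
    (hμ : HasType N μ) : HasType (N * U) μ := fun k => by
  rw [← hμ k, rankDim_eq_range, rankDim_eq_range, hc.mul_pow, Module.End.mul_eq_comp,
    LinearMap.range_comp_of_range_eq_top]
  exact LinearMap.range_eq_top.2 ((Module.End.isUnit_iff _).1 (hU.pow k)).2

/-- A vector with `N ^ (n - 1) v ≠ 0` and `N ^ n v = 0` in dimension `n` gives a single block. -/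
theorem single_of_cyclic (N : Module.End F V) {n : ℕ} (hn : finrank F V = n) {v : V}
    (h1 : (N ^ (n - 1)) v ≠ 0) (h0 : (N ^ n) v = 0) : IsNilpotent N ∧ HasType N {n} := by
  classical
  set D : Submodule F V := LinearMap.ker (N ^ n) with hD
  have hinv : ∀ x ∈ D, N x ∈ D := fun x hx => by
    rw [hD, LinearMap.mem_ker] at hx ⊢
    rw [← Module.End.mul_apply, ← pow_succ, pow_succ', Module.End.mul_apply, hx, map_zero]
  have hr : IsNilpotent (N.restrict hinv) := ⟨n, LinearMap.ext fun x => Subtype.ext (by
    rw [Module.End.pow_restrict _ hinv]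
    exact x.2)⟩
  have hge : n ≤ finrank F D := by
    by_contra hlt
    have h := LinearMap.congr_fun (RegNilp.pow_finrank_eq_zero hr) ⟨v, LinearMap.mem_ker.2 h0⟩
    rw [LinearMap.zero_apply, Module.End.pow_restrict _ hinv] at h
    refine h1 ?_
    rw [show n - 1 = (n - 1 - finrank F D) + finrank F D by omega, pow_add, Module.End.mul_apply,
      show (N ^ finrank F D) v = 0 from congrArg Subtype.val h, map_zero]
  have htop : D = ⊤ := Submodule.eq_top_of_finrank_eq (le_antisymm D.finrank_le (hn.trans_le hge))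
  have hN : N ^ n = 0 := LinearMap.ker_eq_top.1 (hD ▸ htop)
  refine ⟨⟨n, hN⟩, fun j => ?_⟩
  obtain ⟨d, k, L, hL⟩ := UnipClasses.exists_shift N ⟨n, hN⟩
  have hsum : ∑ i, k i = n := by
    have h := L.finrank_eq
    rw [Module.finrank_fintype_fun_eq_card, Fintype.card_sigma, hn] at h
    simpa using h.symm
  obtain ⟨i, hi⟩ : ∃ i, n - 1 < k i := by
    by_contra hcon
    push Not at hcon
    refine h1 (L.injective ?_)
    rw [UnipClasses.pow_conj L hL, map_zero]
    funext q
    rw [shiftFun_pow_apply, dif_neg (by have := q.2.isLt; have := hcon q.1; omega)]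
    rfl
  have hrest : ∀ l, l ≠ i → k l - j = 0 := fun l hl => by
    have h2 : k i + k l ≤ n := by
      rw [← hsum, ← Finset.sum_pair (Ne.symm hl)]
      exact Finset.sum_le_sum_of_subset (Finset.subset_univ _)
    omega
  rw [UnipClasses.hasType_of_shift k L hL j, Multiset.map_map]
  show ∑ l, (k l - j) = _
  rw [Finset.sum_eq_single i (fun l _ hl => hrest l hl) (by simp)]
  have hki : k i ≤ n := hsum ▸ Finset.single_le_sum (fun l _ => Nat.zero_le (k l)) (Finset.mem_univ i)
  simp only [Multiset.map_singleton, Multiset.sum_singleton]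
  omega

/-! ### The block matrix model -/

theorem jordanBlock_sub_one_mulVec (k : ℕ) (x : Fin k → F) (i : Fin k) :
    Matrix.mulVec (jordanBlock k F - 1) x i =
      if h : 0 < (i : ℕ) then x ⟨(i : ℕ) - 1, by omega⟩ else 0 := by
  simp only [Matrix.mulVec, dotProduct, Matrix.sub_apply, jordanBlock, Matrix.of_apply,
    Matrix.one_apply, Fin.ext_iff]
  split_ifs with h
  · rw [Finset.sum_eq_single ⟨(i : ℕ) - 1, by omega⟩]
    · rw [if_neg (by simp only; omega), if_pos (by simp only; omega), if_neg (by simp only; omega),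
        sub_zero, one_mul]
    · intro j _ hj
      have hj' : (i : ℕ) ≠ (j : ℕ) + 1 := fun e => hj (Fin.ext (by simp only; omega))
      split_ifs <;> simp
    · simp
  · refine Finset.sum_eq_zero fun j _ => ?_
    rw [if_neg (show ¬ ((i : ℕ) = (j : ℕ) + 1) by omega)]
    simp

variable {ι : Type*} [Fintype ι] [DecidableEq ι] {t : ℕ}

theorem jordanTypeMatrix_sub_one_mulVec (d : Fin t → ℕ) (g : ((k : Fin t) × Fin (d k)) → F) :
    Matrix.mulVec (jordanTypeMatrix d F - 1) g = shiftFun d g := by
  funext p
  obtain ⟨k, i⟩ := p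
  have h1 : (1 : Matrix ((k : Fin t) × Fin (d k)) ((k : Fin t) × Fin (d k)) F) =
      Matrix.blockDiagonal' fun _ => 1 := Matrix.blockDiagonal'_one.symm
  rw [jordanTypeMatrix, h1, ← Matrix.blockDiagonal'_sub]
  show _ = if h : 0 < (i : ℕ) then g ⟨k, ⟨(i : ℕ) - 1, by omega⟩⟩ else 0
  rw [← jordanBlock_sub_one_mulVec (d k) (fun j => g ⟨k, j⟩) i]
  simp only [Matrix.mulVec, dotProduct, Fintype.sum_sigma]
  rw [Finset.sum_eq_single k]
  · refine Finset.sum_congr rfl fun j _ => ?_
    rw [Matrix.blockDiagonal'_apply_eq]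
    rfl
  · intro l _ hl
    refine Finset.sum_eq_zero fun j _ => ?_
    rw [Matrix.blockDiagonal'_apply_ne _ _ _ (Ne.symm hl), zero_mul]
  · simp

theorem isNilpotent_shiftFun (d : Fin t → ℕ) :
    IsNilpotent (shiftFun (F := F) d : Module.End F (((k : Fin t) × Fin (d k)) → F)) := by
  refine ⟨∑ k, d k, LinearMap.ext fun f => funext fun p => ?_⟩
  rw [shiftFun_pow_apply, dif_neg]
  · rfl
  have := p.2.isLt
  have h := Finset.single_le_sum (fun i _ => Nat.zero_le (d i)) (Finset.mem_univ p.1)
  omega

theorem reindex_sub_one_mulVec (d : Fin t → ℕ) (e : ((k : Fin t) × Fin (d k)) ≃ ι) (f : ι → F) :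
    LinearEquiv.funCongrLeft F F e
        (Matrix.mulVec (Matrix.reindex e e (jordanTypeMatrix d F) - 1) f) =
      shiftFun d (LinearEquiv.funCongrLeft F F e f) := by
  rw [← jordanTypeMatrix_sub_one_mulVec]
  have h : Matrix.reindex e e (jordanTypeMatrix d F) - 1 =
      (jordanTypeMatrix d F - 1).submatrix e.symm e.symm := by
    ext a b
    simp [Matrix.reindex_apply, Matrix.one_apply]
  rw [h, Matrix.submatrix_mulVec_equiv]
  funext p
  show Matrix.mulVec _ (f ∘ e) (e.symm (e p)) = _
  rw [Equiv.symm_apply_apply]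
  rfl

/-- Conjugacy to the block model in terms of the Jordan type of `A - 1`. -/
theorem isConj_jordan_iff (d : Fin t → ℕ) (e : ((k : Fin t) × Fin (d k)) ≃ ι) (A : Matrix ι ι F) :
    IsConj (Matrix.reindex e e (jordanTypeMatrix d F)) A ↔
      IsNilpotent (Matrix.toLinAlgEquiv' (A - 1)) ∧
        HasType (Matrix.toLinAlgEquiv' (A - 1)) (Finset.univ.val.map d) := by
  set J := Matrix.reindex e e (jordanTypeMatrix d F) with hJdef
  set E := LinearEquiv.funCongrLeft F F e with hE
  have hJ : ∀ f, E (Matrix.toLinAlgEquiv' (J - 1) f) = shiftFun d (E f) :=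
    reindex_sub_one_mulVec d e
  constructor
  · rintro ⟨c, hc⟩
    let M : (ι → F) ≃ₗ[F] (ι → F) := LinearMap.GeneralLinearGroup.generalLinearEquiv F _
      (Units.map (Matrix.toLinAlgEquiv' (R := F) (n := ι)).toRingEquiv.toMonoidHom c)
    have hM : ∀ v, M (Matrix.toLinAlgEquiv' (J - 1) v) = Matrix.toLinAlgEquiv' (A - 1) (M v) := by
      intro v
      show Matrix.toLinAlgEquiv' (c : Matrix ι ι F) (Matrix.toLinAlgEquiv' (J - 1) v) =
        Matrix.toLinAlgEquiv' (A - 1) (Matrix.toLinAlgEquiv' (c : Matrix ι ι F) v)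
      rw [← Module.End.mul_apply, ← map_mul, ← Module.End.mul_apply, ← map_mul, mul_sub, sub_mul,
        mul_one, one_mul, hc.eq]
    have hL : ∀ g, (E.symm.trans M) (shiftFun d g) =
        Matrix.toLinAlgEquiv' (A - 1) ((E.symm.trans M) g) := by
      intro g
      show M (E.symm (shiftFun d g)) = _
      rw [← E.apply_symm_apply g, ← hJ, E.symm_apply_apply, hM, E.apply_symm_apply]
      rfl
    exact ⟨isNilpotent_conj _ hL (isNilpotent_shiftFun d),
      hasType_conj _ hL (shiftFun_hasType d)⟩
  · rintro ⟨hnil, hty⟩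
    obtain ⟨L, hL⟩ := UnipClasses.similar_of_rankDim (isNilpotent_shiftFun d) hnil
      fun j => (shiftFun_hasType (F := F) d j).trans (hty j).symm
    let M := E.trans L
    let c : (Matrix ι ι F)ˣ :=
      ⟨Matrix.toLinAlgEquiv'.symm (M : Module.End F (ι → F)),
        Matrix.toLinAlgEquiv'.symm (M.symm : Module.End F (ι → F)),
        by rw [← map_mul, ← map_one (Matrix.toLinAlgEquiv' (R := F) (n := ι)).symm]
           exact congrArg _ (LinearMap.ext fun v => M.apply_symm_apply v),
        by rw [← map_mul, ← map_one (Matrix.toLinAlgEquiv' (R := F) (n := ι)).symm]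
           exact congrArg _ (LinearMap.ext fun v => M.symm_apply_apply v)⟩
    refine ⟨c, Matrix.toLinAlgEquiv'.injective (LinearMap.ext fun v => ?_)⟩
    rw [map_mul, map_mul, Module.End.mul_apply, Module.End.mul_apply]
    simp only [c, AlgEquiv.apply_symm_apply, LinearEquiv.coe_coe]
    have h : M (Matrix.toLinAlgEquiv' (J - 1) v) = Matrix.toLinAlgEquiv' (A - 1) (M v) := by
      show L (E _) = _
      rw [hJ, hL]
      rfl
    simp only [map_sub, map_one, LinearMap.sub_apply, Module.End.one_apply] at h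
    exact sub_left_inj.1 h

/-! ### Parity -/

theorem even_rank_of_isAlt {C : LinearMap.BilinForm F V} (hA : C.IsAlt) :
    Even (finrank F (LinearMap.range C)) := by
  obtain ⟨D, hD⟩ := Submodule.exists_isCompl (LinearMap.ker C)
  have hev : Even (finrank F D) := by
    refine Forms.SympTwo.even_finrank_of_isAlt (β := LinearMap.BilinForm.restrict C D)
      (fun x => hA (x : V)) fun x hx => Subtype.ext ?_
    have hk : (x : V) ∈ LinearMap.ker C := by
      refine LinearMap.mem_ker.2 (LinearMap.ext fun y => ?_)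
      have hy : y ∈ LinearMap.ker C ⊔ D := by rw [hD.sup_eq_top]; trivial
      obtain ⟨a, ha, b, hb, rfl⟩ := Submodule.mem_sup.1 hy
      have h1 : C (x : V) a = 0 := by
        rw [← LinearMap.BilinForm.IsAlt.neg_eq hA, LinearMap.mem_ker.1 ha]
        simp
      have h2 : C (x : V) b = 0 := hx ⟨b, hb⟩
      simp [h1, h2]
    have hmem : (x : V) ∈ LinearMap.ker C ⊓ D := ⟨hk, x.2⟩
    rw [hD.inf_eq_bot] at hmem
    exact hmem
  have h1 := C.finrank_range_add_finrank_ker
  have h2 := Submodule.finrank_add_eq_of_isCompl hD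
  have h3 : finrank F (LinearMap.range C) = finrank F D := by omega
  rwa [h3]

theorem even_rankDim_of_ker {C : LinearMap.BilinForm F V} (hA : C.IsAlt) {N : Module.End F V} {k : ℕ}
    (hk : ∀ x, (∀ y, C x y = 0) ↔ (N ^ k) x = 0) : Even (rankDim N ⊤ k) := by
  have hker : LinearMap.ker C = LinearMap.ker (N ^ k) := by
    ext x
    rw [LinearMap.mem_ker, LinearMap.mem_ker, ← hk]
    exact ⟨fun h y => by rw [h]; rfl, fun h => LinearMap.ext fun y => (h y).trans rfl⟩
  have h1 := C.finrank_range_add_finrank_ker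
  have h2 := (N ^ k).finrank_range_add_finrank_ker
  rw [hker] at h1
  rw [rankDim_eq_range, show finrank F (LinearMap.range (N ^ k)) = finrank F (LinearMap.range C) by
    omega]
  exact even_rank_of_isAlt hA

variable {B : LinearMap.BilinForm F V} {A : V →ₗ[F] V}

/-- For an isometry `A`, the vectors orthogonal to the image of `(A - 1) ^ k` are its kernel. -/
theorem orth_pow (hsep : ∀ y, (∀ x, B x y = 0) → y = 0) (hA : ∀ x y, B (A x) (A y) = B x y) :
    ∀ (k : ℕ) (y : V), (∀ x, B (((A - 1) ^ k) x) y = 0) ↔ ((A - 1) ^ k) y = 0 := by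
  have hinj : Function.Injective A := (injective_iff_map_eq_zero A).2 fun v hv =>
    hsep v fun x => by rw [← hA, hv, map_zero]
  have hsurj : Function.Surjective A := LinearMap.injective_iff_surjective.1 hinj
  have hcomm : Commute A (A - 1) := (Commute.refl A).sub_right (Commute.one_right A)
  intro k
  induction k with
  | zero =>
    intro y
    simp only [pow_zero, Module.End.one_apply]
    exact ⟨hsep y, fun h x => by rw [h, map_zero]⟩
  | succ k ih =>
    intro y
    obtain ⟨z, rfl⟩ := hsurj y
    have key : ∀ x, B (((A - 1) ^ (k + 1)) x) (A z) = -B (((A - 1) ^ k) x) ((A - 1) z) := by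
      intro x
      rw [pow_succ', Module.End.mul_apply]
      simp only [LinearMap.sub_apply, Module.End.one_apply, map_sub, hA]
      abel
    calc (∀ x, B (((A - 1) ^ (k + 1)) x) (A z) = 0)
        ↔ (∀ x, B (((A - 1) ^ k) x) ((A - 1) z) = 0) :=
          forall_congr' fun x => by rw [key, neg_eq_zero]
      _ ↔ ((A - 1) ^ k) ((A - 1) z) = 0 := ih _
      _ ↔ ((A - 1) ^ (k + 1)) z = 0 := by rw [pow_succ, Module.End.mul_apply]
      _ ↔ ((A - 1) ^ (k + 1)) (A z) = 0 := by
          rw [← Module.End.mul_apply ((A - 1) ^ (k + 1)) A z, ← (hcomm.pow_right (k + 1)).eq,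
            Module.End.mul_apply, map_eq_zero_iff A hinj]

theorem even_rankDim_isAlt (hB : B.IsAlt) (hsep : ∀ y, (∀ x, B x y = 0) → y = 0)
    (hA : ∀ x y, B (A x) (A y) = B x y) (i : ℕ) : Even (rankDim (A - 1) ⊤ (i + i)) := by
  refine even_rankDim_of_ker (C := B.compl₁₂ ((A - 1) ^ i) ((A - 1) ^ i)) (fun x => hB _) fun x => ?_
  rw [pow_add, Module.End.mul_apply, ← orth_pow hsep hA]
  simp only [LinearMap.compl₁₂_apply]
  refine forall_congr' fun y => ?_
  rw [← LinearMap.BilinForm.IsAlt.neg_eq hB, neg_eq_zero]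

theorem even_rankDim_isSymm (h2 : (2 : F) ≠ 0) (hB : ∀ x y, B x y = B y x)
    (hsep : ∀ x, (∀ y, B x y = 0) → x = 0) (hA : ∀ x y, B (A x) (A y) = B x y)
    (hnil : IsNilpotent (A - 1)) (i : ℕ) : Even (rankDim (A - 1) ⊤ (i + i + 1)) := by
  have hu : IsUnit A := by simpa using hnil.isUnit_add_one
  obtain ⟨a, ha⟩ := hu
  set A' : Module.End F V := ((a⁻¹ : (Module.End F V)ˣ) : Module.End F V) with hA'
  have h12 : A * A' = 1 := by rw [← ha]; exact a.mul_inv
  have h21 : A' * A = 1 := by rw [← ha]; exact a.inv_mul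
  set S : Module.End F V := A - A' with hS
  have hAA' : ∀ v, A (A' v) = v := fun v => by rw [← Module.End.mul_apply, h12, Module.End.one_apply]
  have hskew : ∀ x y, B (S x) y = -B x (S y) := by
    intro x y
    have e1 : B (A x) y = B x (A' y) := by
      conv_lhs => rw [← hAA' y]
      rw [hA]
    have e2 : B (A' x) y = B x (A y) := by
      conv_rhs => rw [← hAA' x]
      rw [hA]
    simp only [hS, LinearMap.sub_apply, map_sub, e1, e2]
    abel
  have hpow : ∀ (k : ℕ) x y, B ((S ^ k) x) y = (-1) ^ k * B x ((S ^ k) y) := by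
    intro k
    induction k with
    | zero => intro x y; simp
    | succ k ih =>
      intro x y
      rw [pow_succ' S k, Module.End.mul_apply, hskew, ih, ← Module.End.mul_apply, ← pow_succ]
      rw [Module.End.mul_apply, ← Module.End.mul_apply S, ← pow_succ', pow_succ S k]
      ring
  have hU : IsUnit (A' * (A + 1)) := by
    refine ((a⁻¹).isUnit).mul ?_
    have h2' : IsUnit (algebraMap F (Module.End F V) 2) := (IsUnit.mk0 _ h2).map _
    have := hnil.isUnit_add_left_of_commute h2' (Algebra.commute_algebraMap_right _ _)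
    rwa [map_ofNat, show (2 : Module.End F V) + (A - 1) = A + 1 by rw [← one_add_one_eq_two]; abel]
      at this
  have hAc : Commute A A' := h12.trans h21.symm
  have hNU : Commute (A - 1) (A' * (A + 1)) :=
    ((hAc.sub_left (Commute.one_left _)).mul_right
      (((Commute.refl A).add_right (Commute.one_right A)).sub_left (Commute.one_left _)))
  have hSN : S = (A - 1) * (A' * (A + 1)) := by
    rw [hNU.eq, mul_assoc]
    rw [show (A + 1) * (A - 1) = A * A - 1 by rw [mul_sub, add_mul, mul_one, one_mul]; abel]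
    rw [mul_sub, ← mul_assoc, h21, one_mul, mul_one]
  have hrank : rankDim (A - 1) ⊤ (i + i + 1) = rankDim S ⊤ (i + i + 1) := by
    rw [rankDim_eq_range, rankDim_eq_range, hSN, hNU.mul_pow, Module.End.mul_eq_comp,
      LinearMap.range_comp_of_range_eq_top]
    exact LinearMap.range_eq_top.2 ((Module.End.isUnit_iff _).1 (hU.pow _)).2
  rw [hrank]
  have hodd : ((-1 : F)) ^ (i + i + 1) = -1 := Odd.neg_one_pow ⟨i, by omega⟩
  refine even_rankDim_of_ker (C := B.compl₁₂ (S ^ (i + i + 1)) LinearMap.id) (fun x => ?_) fun x => ?_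
  · show B ((S ^ (i + i + 1)) x) x = 0
    have h := hpow (i + i + 1) x x
    rw [hodd, hB x, neg_one_mul] at h
    exact (mul_eq_zero.1 (show (2 : F) * B ((S ^ (i + i + 1)) x) x = 0 by
      linear_combination h)).resolve_left h2
  · exact ⟨fun h => hsep _ fun y => h y, fun h y => by
      show B ((S ^ (i + i + 1)) x) y = 0
      rw [h]; simp⟩

/-- The number of blocks of size `j + 1` has the parity of the ranks of the two neighbouring powers. -/
theorem even_count_iff {N : Module.End F V} {μ : Multiset ℕ} (h : HasType N μ) (j : ℕ) :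
    Even (μ.count (j + 1)) ↔ Even (rankDim N ⊤ j + rankDim N ⊤ (j + 2)) := by
  have h1 := rankDim_succ N ⊤ j
  have h2 := rankDim_succ N ⊤ (j + 1)
  have h3 := countP_lt_split μ j
  rw [← h.kerDim_eq, ← h.kerDim_eq] at h3
  rw [show j + 1 + 1 = j + 2 by rfl] at h2
  rw [Nat.even_iff, Nat.even_iff]
  omega

theorem count_map_fin (d : Fin t → ℕ) (j : ℕ) :
    (Finset.univ.val.map d).count j = (Finset.univ.filter fun k : Fin t => d k = j).card := by
  rw [Multiset.count_map, Finset.card_def, Finset.filter_val]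
  simp [eq_comm]

theorem sum_map_fin (d : Fin t → ℕ) : (Finset.univ.val.map d).sum = ∑ k, d k := rfl

end Cfsg.Agent.UnipForms
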