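/-
Unipotent isometries of alternating and quadratic forms with prescribed Jordan types.
-/
import Cfsg.Agent.Lib.UnipForms.Types
import Cfsg.Agent.Lib.RegNilp.Matrix

set_option autoImplicit false
set_option linter.unusedSectionVars false

namespace Cfsg.Agent.UnipForms

open LinRep.JordanType Module Matrix

variable {F : Type*} [Field F]

/-- A Jordan type of a unipotent isometry of a non-degenerate alternating form. -/
def AltReal (F : Type*) [Field F] (μ : Multiset ℕ) : Prop :=
  ∃ (n : ℕ) (B : LinearMap.BilinForm F (Fin n → F)) (N : Module.End F (Fin n → F)),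
    B.IsAlt ∧ (∀ x, (∀ y, B x y = 0) → x = 0) ∧ (∀ x y, B (x + N x) (y + N y) = B x y) ∧
      IsNilpotent N ∧ HasType N μ

/-- A Jordan type of a unipotent isometry of a quadratic form with non-degenerate polar form. -/
def QuadReal (F : Type*) [Field F] (μ : Multiset ℕ) : Prop :=
  ∃ (n : ℕ) (Q : QuadraticForm F (Fin n → F)) (N : Module.End F (Fin n → F)),
    (∀ x, (∀ y, QuadraticMap.polar Q x y = 0) → x = 0) ∧ (∀ x, Q (x + N x) = Q x) ∧
      IsNilpotent N ∧ HasType N μ

section Transport

variable {V : Type*} [AddCommGroup V] [Module F V] [FiniteDimensional F V]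
variable {N : Module.End F V} {μ : Multiset ℕ}

theorem AltReal.mk {B : LinearMap.BilinForm F V} (h1 : B.IsAlt)
    (h2 : ∀ x, (∀ y, B x y = 0) → x = 0) (h3 : ∀ x y, B (x + N x) (y + N y) = B x y)
    (h4 : IsNilpotent N) (h5 : HasType N μ) : AltReal F μ := by
  let L : V ≃ₗ[F] (Fin (finrank F V) → F) := (Module.finBasis F V).equivFun
  let M : Module.End F (Fin (finrank F V) → F) := L.toLinearMap ∘ₗ N ∘ₗ L.symm.toLinearMap
  have hM : ∀ v, L (N v) = M (L v) := fun v => by simp [M]
  refine ⟨_, B.compl₁₂ L.symm.toLinearMap L.symm.toLinearMap, M, fun x => h1 _, fun x hx => ?_,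
    fun x y => ?_, isNilpotent_conj L hM h4, hasType_conj L hM h5⟩
  · refine L.symm.injective ?_
    rw [map_zero]
    refine h2 _ fun y => ?_
    simpa using hx (L y)
  · have e : ∀ z, L.symm (z + M z) = L.symm z + N (L.symm z) := fun z => by simp [M, map_add]
    simp only [LinearMap.compl₁₂_apply, LinearEquiv.coe_coe, e]
    exact h3 _ _

theorem QuadReal.mk {Q : QuadraticForm F V}
    (h2 : ∀ x, (∀ y, QuadraticMap.polar Q x y = 0) → x = 0) (h3 : ∀ x, Q (x + N x) = Q x)
    (h4 : IsNilpotent N) (h5 : HasType N μ) : QuadReal F μ := by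
  let L : V ≃ₗ[F] (Fin (finrank F V) → F) := (Module.finBasis F V).equivFun
  let M : Module.End F (Fin (finrank F V) → F) := L.toLinearMap ∘ₗ N ∘ₗ L.symm.toLinearMap
  have hM : ∀ v, L (N v) = M (L v) := fun v => by simp [M]
  refine ⟨_, Q.comp L.symm.toLinearMap, M, fun x hx => ?_,
    fun x => ?_, isNilpotent_conj L hM h4, hasType_conj L hM h5⟩
  · refine L.symm.injective ?_
    rw [map_zero]
    refine h2 _ fun y => ?_
    have h := hx (L y)
    simpa [QuadraticMap.polar] using h
  · simp only [QuadraticMap.comp_apply, LinearEquiv.coe_coe, map_add, M, LinearMap.comp_apply,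
      LinearEquiv.symm_apply_apply]
    exact h3 _

end Transport

theorem hasType_zero_empty : HasType (0 : Module.End F (Fin 0 → F)) 0 := fun k => by
  rw [rankDim_eq_range]
  have h := Submodule.finrank_le (LinearMap.range ((0 : Module.End F (Fin 0 → F)) ^ k))
  rw [Module.finrank_fintype_fun_eq_card, Fintype.card_fin] at h
  simp only [Multiset.map_zero, Multiset.sum_zero]
  omega

theorem AltReal.zero : AltReal F 0 :=
  ⟨0, 0, 0, fun _ => rfl, fun _ _ => Subsingleton.elim _ _, fun _ _ => rfl, ⟨1, pow_one _⟩,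
    hasType_zero_empty⟩

theorem QuadReal.zero : QuadReal F 0 :=
  ⟨0, 0, 0, fun _ _ => Subsingleton.elim _ _, fun _ => rfl, ⟨1, pow_one _⟩, hasType_zero_empty⟩

theorem AltReal.add {μ ν : Multiset ℕ} (h : AltReal F μ) (h' : AltReal F ν) :
    AltReal F (μ + ν) := by
  obtain ⟨a, B, N, hA, hs, hi, hn, ht⟩ := h
  obtain ⟨b, B', N', hA', hs', hi', hn', ht'⟩ := h'
  refine AltReal.mk (N := N.prodMap N')
    (B := B.compl₁₂ (LinearMap.fst F _ _) (LinearMap.fst F _ _) +
      B'.compl₁₂ (LinearMap.snd F _ _) (LinearMap.snd F _ _)) (fun x => ?_) (fun x hx => ?_)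
    (fun x y => ?_) (isNilpotent_prodMap hn hn') (hasType_prod ht ht')
  · simp [hA x.1, hA' x.2]
  · refine Prod.ext (hs _ fun y => ?_) (hs' _ fun y => ?_)
    · simpa using hx (y, 0)
    · simpa using hx (0, y)
  · simp only [LinearMap.add_apply, LinearMap.compl₁₂_apply, LinearMap.fst_apply, LinearMap.snd_apply,
      LinearMap.prodMap_apply, Prod.fst_add, Prod.snd_add, hi, hi']

theorem QuadReal.add {μ ν : Multiset ℕ} (h : QuadReal F μ) (h' : QuadReal F ν) :
    QuadReal F (μ + ν) := by
  obtain ⟨a, Q, N, hs, hi, hn, ht⟩ := h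
  obtain ⟨b, Q', N', hs', hi', hn', ht'⟩ := h'
  refine QuadReal.mk (N := N.prodMap N') (Q := Q.prod Q') (fun x hx => ?_)
    (fun x => ?_) (isNilpotent_prodMap hn hn') (hasType_prod ht ht')
  · refine Prod.ext (hs _ fun y => ?_) (hs' _ fun y => ?_)
    · have h := hx (y, 0)
      simp only [QuadraticMap.polar, QuadraticMap.prod_apply, Prod.fst_add, Prod.snd_add, add_zero,
        QuadraticMap.map_zero] at h
      simp only [QuadraticMap.polar]
      linear_combination h
    · have h := hx (0, y)
      simp only [QuadraticMap.polar, QuadraticMap.prod_apply, Prod.fst_add, Prod.snd_add, add_zero,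
        QuadraticMap.map_zero] at h
      simp only [QuadraticMap.polar]
      linear_combination h
  · simp only [QuadraticMap.prod_apply, LinearMap.prodMap_apply, Prod.fst_add, Prod.snd_add, hi, hi']

/-! ### The shift and its companions -/

variable {r : ℕ}

/-- The nilpotent part of the Jordan block. -/
def shM (r : ℕ) (F : Type*) [Field F] : Matrix (Fin r) (Fin r) F := jordanBlock r F - 1

/-- The inverse of the Jordan block. -/
noncomputable def invP (r : ℕ) (F : Type*) [Field F] : Matrix (Fin r) (Fin r) F :=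
  Ring.inverse (jordanBlock r F)

/-- The first basis vector. -/
def firstVec (r : ℕ) (F : Type*) [Field F] : Fin r → F := fun i => if (i : ℕ) = 0 then 1 else 0

/-- The last basis vector. -/
def lastVec (r : ℕ) (F : Type*) [Field F] : Fin r → F := fun i => if (i : ℕ) + 1 = r then 1 else 0

theorem shM_pow_mulVec (k : ℕ) (x : Fin r → F) (i : Fin r) :
    (shM r F ^ k *ᵥ x) i = if h : k ≤ (i : ℕ) then x ⟨(i : ℕ) - k, by omega⟩ else 0 := by
  induction k generalizing i with
  | zero => simp
  | succ k ih =>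
    rw [pow_succ', ← Matrix.mulVec_mulVec, shM, jordanBlock_sub_one_mulVec]
    by_cases h0 : 0 < (i : ℕ)
    · rw [dif_pos h0, ← shM, ih]
      by_cases hk : k + 1 ≤ (i : ℕ)
      · rw [dif_pos (show k ≤ (i : ℕ) - 1 by omega), dif_pos hk]
        congr 1
        exact Fin.ext (by simp only; omega)
      · rw [dif_neg (show ¬ k ≤ (i : ℕ) - 1 by omega), dif_neg hk]
    · rw [dif_neg h0, dif_neg (by omega)]

theorem shM_pow_self : shM r F ^ r = 0 := by
  refine Matrix.ext_of_mulVec_single fun j => funext fun i => ?_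
  rw [shM_pow_mulVec, dif_neg (by omega), Matrix.zero_mulVec]
  rfl

theorem shM_pow_first (k : ℕ) (i : Fin r) :
    (shM r F ^ k *ᵥ firstVec r F) i = if (i : ℕ) = k then 1 else 0 := by
  rw [shM_pow_mulVec]
  simp only [firstVec]
  split_ifs <;> first | rfl | omega

theorem shM_pow_first_last (hr : 1 ≤ r) : shM r F ^ (r - 1) *ᵥ firstVec r F = lastVec r F := by
  funext i
  rw [shM_pow_first, lastVec]
  split_ifs <;> first | rfl | omega

theorem shM_mulVec_last : shM r F *ᵥ lastVec r F = 0 := by
  funext i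
  rw [shM, jordanBlock_sub_one_mulVec]
  simp only [lastVec, Pi.zero_apply]
  split_ifs <;> first | rfl | omega

theorem lastVec_dot (x : Fin r → F) : lastVec r F ⬝ᵥ x =
    if h : 1 ≤ r then x ⟨r - 1, by omega⟩ else 0 := by
  split_ifs with h
  · rw [dotProduct, Finset.sum_eq_single ⟨r - 1, by omega⟩]
    · simp [lastVec, Nat.sub_add_cancel h]
    · intro i _ hi
      rw [lastVec, if_neg (fun e => hi (Fin.ext (by simp only; omega))), zero_mul]
    · simp
  · exact Finset.sum_eq_zero fun i _ => absurd i.isLt (by omega)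

theorem lastVec_dot_self (hr : 1 ≤ r) : lastVec r F ⬝ᵥ lastVec r F = 1 := by
  rw [lastVec_dot, dif_pos hr, lastVec, if_pos (by simp only; omega)]

theorem lastVec_dot_pow_first (hr : 1 ≤ r) {k : ℕ} (hk : k < r - 1) :
    lastVec r F ⬝ᵥ (shM r F ^ k *ᵥ firstVec r F) = 0 := by
  rw [lastVec_dot, dif_pos hr, shM_pow_first, if_neg (by simp only; omega)]

theorem jordanBlock_eq : jordanBlock r F = 1 + shM r F := by rw [shM, add_sub_cancel]

theorem isUnit_jordanBlock : IsUnit (jordanBlock r F) := by
  rw [jordanBlock_eq]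
  exact IsNilpotent.isUnit_one_add ⟨r, shM_pow_self⟩

theorem jordanBlock_mul_invP : jordanBlock r F * invP r F = 1 :=
  Ring.mul_inverse_cancel _ isUnit_jordanBlock

theorem invP_mul_jordanBlock : invP r F * jordanBlock r F = 1 :=
  Ring.inverse_mul_cancel _ isUnit_jordanBlock

theorem commute_shM_invP : Commute (shM r F) (invP r F) := by
  have h : Commute (jordanBlock r F) (invP r F) :=
    jordanBlock_mul_invP.trans invP_mul_jordanBlock.symm
  exact h.sub_left (Commute.one_left _)

theorem invP_sub_one : invP r F - 1 = -(shM r F * invP r F) := by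
  rw [shM, sub_mul, jordanBlock_mul_invP, one_mul, neg_sub]

theorem invP_sub_one_pow (k : ℕ) :
    (invP r F - 1) ^ k = (-1) ^ k * (invP r F ^ k * shM r F ^ k) := by
  rw [invP_sub_one, neg_pow, commute_shM_invP.mul_pow, (commute_shM_invP.pow_pow k k).eq]

theorem invP_sub_one_pow_self : (invP r F - 1) ^ r = 0 := by
  rw [invP_sub_one_pow, shM_pow_self, mul_zero, mul_zero]

theorem jordanBlock_mulVec_last : jordanBlock r F *ᵥ lastVec r F = lastVec r F := by
  rw [jordanBlock_eq, Matrix.add_mulVec, Matrix.one_mulVec, shM_mulVec_last, add_zero]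

theorem invP_mulVec_last : invP r F *ᵥ lastVec r F = lastVec r F := by
  conv_lhs => rw [← jordanBlock_mulVec_last]
  rw [Matrix.mulVec_mulVec, invP_mul_jordanBlock, Matrix.one_mulVec]

theorem invP_pow_mulVec_last : ∀ k : ℕ, invP r F ^ k *ᵥ lastVec r F = lastVec r F
  | 0 => by simp
  | k + 1 => by
    rw [pow_succ, ← Matrix.mulVec_mulVec, invP_mulVec_last, invP_pow_mulVec_last k]

theorem invP_sub_one_mulVec_last : (invP r F - 1) *ᵥ lastVec r F = 0 := by
  rw [Matrix.sub_mulVec, Matrix.one_mulVec, invP_mulVec_last, sub_self]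

theorem invP_sub_one_pow_first (hr : 1 ≤ r) :
    (invP r F - 1) ^ (r - 1) *ᵥ firstVec r F = (-1 : F) ^ (r - 1) • lastVec r F := by
  rw [invP_sub_one_pow, ← Matrix.mulVec_mulVec, ← Matrix.mulVec_mulVec, shM_pow_first_last hr,
    invP_pow_mulVec_last]
  rcases Nat.even_or_odd (r - 1) with h | h
  · rw [h.neg_one_pow, h.neg_one_pow, Matrix.one_mulVec, one_smul]
  · rw [h.neg_one_pow, h.neg_one_pow, Matrix.neg_mulVec, Matrix.one_mulVec, neg_one_smul]

theorem pairing_invariant (a b : Fin r → F) :
    (a ᵥ* invP r F) ⬝ᵥ (jordanBlock r F *ᵥ b) = a ⬝ᵥ b := by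
  rw [Matrix.dotProduct_mulVec, Matrix.vecMul_vecMul, invP_mul_jordanBlock, Matrix.vecMul_one]

theorem vecMulLinear_pow (M : Matrix (Fin r) (Fin r) F) : ∀ (k : ℕ) (φ : Fin r → F),
    ((M.vecMulLinear : Module.End F (Fin r → F)) ^ k) φ = φ ᵥ* M ^ k
  | 0, φ => by simp
  | k + 1, φ => by
    rw [pow_succ', Module.End.mul_apply, vecMulLinear_pow M k, Matrix.vecMulLinear_apply,
      Matrix.vecMul_vecMul, ← pow_succ]

/-! ### The pairing forms -/

/-- `((x, φ), (y, ψ)) ↦ φ · y`. -/
def pairB (r : ℕ) (F : Type*) [Field F] : LinearMap.BilinForm F ((Fin r → F) × (Fin r → F)) :=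
  LinearMap.mk₂ F (fun v w => v.2 ⬝ᵥ w.1) (fun _ _ _ => add_dotProduct _ _ _)
    (fun _ _ _ => smul_dotProduct _ _ _) (fun _ _ _ => dotProduct_add _ _ _)
    (fun _ _ _ => dotProduct_smul _ _ _)

@[simp] theorem pairB_apply (v w : (Fin r → F) × (Fin r → F)) : pairB r F v w = v.2 ⬝ᵥ w.1 := rfl

theorem altB_isAlt : (pairB r F - (pairB r F).flip).IsAlt := fun v => by simp

theorem altB_sep (x : (Fin r → F) × (Fin r → F))
    (h : ∀ y, (pairB r F - (pairB r F).flip) x y = 0) : x = 0 := by
  refine Prod.ext (funext fun i => ?_) (funext fun i => ?_)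
  · simpa using h (0, Pi.single i 1)
  · simpa using h (Pi.single i 1, 0)

theorem pairQ_sep (x : (Fin r → F) × (Fin r → F))
    (h : ∀ y, QuadraticMap.polar (pairB r F).toQuadraticMap x y = 0) : x = 0 := by
  refine Prod.ext (funext fun i => ?_) (funext fun i => ?_)
  · simpa [LinearMap.BilinMap.polar_toQuadraticMap] using h (0, Pi.single i 1)
  · simpa [LinearMap.BilinMap.polar_toQuadraticMap] using h (Pi.single i 1, 0)

/-- Two blocks of size `r`, one on each side of the pairing. -/
noncomputable def pairN (r : ℕ) (F : Type*) [Field F] :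
    Module.End F ((Fin r → F) × (Fin r → F)) :=
  LinearMap.prodMap (Matrix.toLinAlgEquiv' (shM r F)) ((invP r F - 1).vecMulLinear)

theorem add_pairN (v : (Fin r → F) × (Fin r → F)) :
    v + pairN r F v = (jordanBlock r F *ᵥ v.1, v.2 ᵥ* invP r F) := by
  refine Prod.ext ?_ ?_
  · show v.1 + shM r F *ᵥ v.1 = _
    rw [jordanBlock_eq, Matrix.add_mulVec, Matrix.one_mulVec]
  · show v.2 + v.2 ᵥ* (invP r F - 1) = _
    rw [Matrix.vecMul_sub, Matrix.vecMul_one, add_sub_cancel]

theorem pairN_type (hr : 1 ≤ r) : IsNilpotent (pairN r F) ∧ HasType (pairN r F) {r, r} := by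
  have hd : finrank F (Fin r → F) = r := by rw [finrank_fintype_fun_eq_card, Fintype.card_fin]
  have hd0 : lastVec r F ≠ 0 := fun h => by
    simpa [h] using lastVec_dot_self (F := F) hr
  have h1 := single_of_cyclic (Matrix.toLinAlgEquiv' (shM r F)) hd (v := firstVec r F)
    (by rw [RegNilp.toLin_pow_apply, shM_pow_first_last hr]; exact hd0)
    (by rw [RegNilp.toLin_pow_apply, shM_pow_self, Matrix.zero_mulVec])
  have h2 := single_of_cyclic (invP r F - 1).vecMulLinear hd (v := lastVec r F) (fun h => by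
      rw [vecMulLinear_pow] at h
      have h' := congrArg (· ⬝ᵥ firstVec r F) h
      simp only [← Matrix.dotProduct_mulVec, invP_sub_one_pow_first hr, dotProduct_smul,
        lastVec_dot_self hr, zero_dotProduct, smul_eq_mul, mul_one] at h'
      exact pow_ne_zero _ (neg_ne_zero.2 one_ne_zero) h')
    (by rw [vecMulLinear_pow, invP_sub_one_pow_self, Matrix.vecMul_zero])
  exact ⟨isNilpotent_prodMap h1.1 h2.1, hasType_prod h1.2 h2.2⟩

theorem AltReal.pair (hr : 1 ≤ r) : AltReal F {r, r} := by
  refine AltReal.mk altB_isAlt altB_sep (fun x y => ?_) (pairN_type hr).1 (pairN_type hr).2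
  simp [add_pairN, pairing_invariant]

theorem QuadReal.pair (hr : 1 ≤ r) : QuadReal F {r, r} := by
  refine QuadReal.mk pairQ_sep (fun x => ?_) (pairN_type hr).1 (pairN_type hr).2
  simp [add_pairN, pairing_invariant]

/-! ### One block of even size -/

/-- `s (x, φ) = x_last + c φ_last`. -/
def lastFun (r : ℕ) (c : F) : ((Fin r → F) × (Fin r → F)) →ₗ[F] F where
  toFun v := lastVec r F ⬝ᵥ v.1 + c * (lastVec r F ⬝ᵥ v.2)
  map_add' v w := by simp [dotProduct_add, mul_add]; ring
  map_smul' a v := by simp [dotProduct_smul, mul_add]; ring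

/-- The transvection followed by the pair of blocks. -/
noncomputable def evenA (r : ℕ) (c : F) : Module.End F ((Fin r → F) × (Fin r → F)) where
  toFun v := (jordanBlock r F *ᵥ (v.1 + (c * lastFun r c v) • lastVec r F),
    (v.2 + lastFun r c v • lastVec r F) ᵥ* invP r F)
  map_add' v w := by
    simp only [map_add, mul_add, add_smul, Matrix.mulVec_add, Matrix.add_vecMul, Prod.fst_add,
      Prod.snd_add, Prod.mk_add_mk, Prod.mk.injEq]
    constructor <;> abel
  map_smul' a v := by
    simp only [map_smul, smul_eq_mul, RingHom.id_apply, Prod.smul_mk, Prod.smul_fst, Prod.smul_snd,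
      Prod.mk.injEq, ← Matrix.mulVec_smul, ← Matrix.smul_vecMul, smul_add, smul_smul]
    exact ⟨by congr 3; ring, trivial⟩

theorem evenA_inl {c : F} {x : Fin r → F} (hx : lastVec r F ⬝ᵥ x = 0) :
    (evenA r c - 1) (x, 0) = (shM r F *ᵥ x, 0) := by
  have hs : lastFun r c (x, 0) = 0 := by simp [lastFun, hx]
  show evenA r c (x, 0) - (x, 0) = _
  show (jordanBlock r F *ᵥ (x + (c * lastFun r c (x, 0)) • lastVec r F),
    ((0 : Fin r → F) + lastFun r c (x, 0) • lastVec r F) ᵥ* invP r F) - (x, 0) = _
  simp [hs, shM, Matrix.sub_mulVec]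

theorem evenA_last (hr : 1 ≤ r) (c : F) :
    (evenA r c - 1) (lastVec r F, 0) = (c • lastVec r F, lastVec r F ᵥ* invP r F) := by
  have hs : lastFun r c (lastVec r F, 0) = 1 := by simp [lastFun, lastVec_dot_self hr]
  show (jordanBlock r F *ᵥ (lastVec r F + (c * lastFun r c (lastVec r F, 0)) • lastVec r F),
    ((0 : Fin r → F) + lastFun r c (lastVec r F, 0) • lastVec r F) ᵥ* invP r F) -
      (lastVec r F, 0) = _
  simp [hs, Matrix.mulVec_add, Matrix.mulVec_smul, jordanBlock_mulVec_last]

theorem evenA_corner (hr : 1 ≤ r) {c : F} (hc : c + c = 0) :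
    (evenA r c - 1) (c • lastVec r F, lastVec r F ᵥ* invP r F) =
      (0, lastVec r F ᵥ* (invP r F * (invP r F - 1))) := by
  have hs : lastFun r c (c • lastVec r F, lastVec r F ᵥ* invP r F) = 0 := by
    simp only [lastFun, LinearMap.coe_mk, AddHom.coe_mk, dotProduct_smul, lastVec_dot_self hr,
      smul_eq_mul, mul_one]
    rw [dotProduct_comm, ← Matrix.dotProduct_mulVec, invP_mulVec_last, lastVec_dot_self hr, mul_one,
      hc]
  show (jordanBlock r F *ᵥ (c • lastVec r F + (c * lastFun r c (c • lastVec r F,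
      lastVec r F ᵥ* invP r F)) • lastVec r F),
    (lastVec r F ᵥ* invP r F + lastFun r c (c • lastVec r F, lastVec r F ᵥ* invP r F) •
      lastVec r F) ᵥ* invP r F) - (c • lastVec r F, lastVec r F ᵥ* invP r F) = _
  simp [hs, Matrix.mulVec_smul, jordanBlock_mulVec_last, mul_sub, Matrix.vecMul_sub,
    Matrix.vecMul_vecMul]

theorem evenA_inr (c : F) (χ : Fin r → F) :
    (evenA r c - 1) (0, χ ᵥ* (invP r F - 1)) =
      (0, χ ᵥ* ((invP r F - 1) * (invP r F - 1))) := by
  have hs : lastFun r c ((0 : Fin r → F), χ ᵥ* (invP r F - 1)) = 0 := by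
    simp only [lastFun, LinearMap.coe_mk, AddHom.coe_mk, dotProduct_zero, zero_add]
    rw [dotProduct_comm, ← Matrix.dotProduct_mulVec, invP_sub_one_mulVec_last, dotProduct_zero,
      mul_zero]
  show (jordanBlock r F *ᵥ ((0 : Fin r → F) + (c * lastFun r c (0, χ ᵥ* (invP r F - 1))) •
      lastVec r F),
    (χ ᵥ* (invP r F - 1) + lastFun r c (0, χ ᵥ* (invP r F - 1)) • lastVec r F) ᵥ* invP r F) -
      (0, χ ᵥ* (invP r F - 1)) = _
  rw [← Matrix.vecMul_vecMul χ]
  generalize χ ᵥ* (invP r F - 1) = ψ at hs ⊢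
  simp [hs, Matrix.vecMul_sub]

theorem evenA_type (hr : 1 ≤ r) {c : F} (hc : c + c = 0) :
    IsNilpotent (evenA r c - 1) ∧ HasType (evenA r c - 1) {r + r} := by
  set N := evenA r c - 1 with hN
  set v : (Fin r → F) × (Fin r → F) := (firstVec r F, 0) with hv
  have low : ∀ i, i ≤ r - 1 → (N ^ i) v = (shM r F ^ i *ᵥ firstVec r F, 0) := by
    intro i
    induction i with
    | zero => intro; simp [hv]
    | succ i ih =>
      intro hi
      rw [pow_succ', Module.End.mul_apply, ih (by omega), hN,
        evenA_inl (lastVec_dot_pow_first hr (by omega)), Matrix.mulVec_mulVec, ← pow_succ']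
  have mid : (N ^ r) v = (c • lastVec r F, lastVec r F ᵥ* invP r F) := by
    have e : N ^ r = N * N ^ (r - 1) := by rw [← pow_succ', Nat.sub_add_cancel hr]
    rw [e, Module.End.mul_apply, low _ le_rfl, shM_pow_first_last hr, hN, evenA_last hr]
  have high : ∀ k, (N ^ (r + (k + 1))) v =
      (0, lastVec r F ᵥ* (invP r F * (invP r F - 1) ^ (k + 1))) := by
    intro k
    induction k with
    | zero =>
      rw [show r + (0 + 1) = r + 1 by rfl, pow_succ', Module.End.mul_apply, mid, hN,
        evenA_corner hr hc, pow_one]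
    | succ k ih =>
      rw [← add_assoc, pow_succ', Module.End.mul_apply, ih, pow_succ, ← mul_assoc,
        ← Matrix.vecMul_vecMul, hN, evenA_inr, Matrix.vecMul_vecMul]
      congr 2
      simp only [pow_succ, mul_assoc]
  have hd : finrank F ((Fin r → F) × (Fin r → F)) = r + r := by
    rw [Module.finrank_prod, finrank_fintype_fun_eq_card, Fintype.card_fin]
  refine single_of_cyclic N hd (v := v) (fun h => ?_) ?_
  · have hsec : ((N ^ (r + r - 1)) v).2 =
        lastVec r F ᵥ* (invP r F * (invP r F - 1) ^ (r - 1)) := by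
      rcases Nat.lt_or_ge 1 r with h1 | h1
      · rw [show r + r - 1 = r + ((r - 2) + 1) by omega, high, show r - 2 + 1 = r - 1 by omega]
      · obtain rfl : r = 1 := by omega
        rw [show 1 + 1 - 1 = 1 from rfl, mid, Nat.sub_self, pow_zero, mul_one]
    rw [h] at hsec
    have h' := congrArg (· ⬝ᵥ firstVec r F) hsec
    simp only [Prod.snd_zero, ← Matrix.dotProduct_mulVec, ← Matrix.mulVec_mulVec,
      invP_sub_one_pow_first hr, Matrix.mulVec_smul, invP_mulVec_last, dotProduct_smul,
      lastVec_dot_self hr, zero_dotProduct, smul_eq_mul, mul_one] at h'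
    exact pow_ne_zero _ (neg_ne_zero.2 one_ne_zero) h'.symm
  · have h := high (r - 1)
    rw [show r - 1 + 1 = r by omega, invP_sub_one_pow_self, mul_zero, Matrix.vecMul_zero] at h
    rw [h]
    rfl

theorem evenA_apply_pair (c : F) (v w : (Fin r → F) × (Fin r → F)) :
    pairB r F (v + (evenA r c - 1) v) (w + (evenA r c - 1) w) =
      (v.2 + lastFun r c v • lastVec r F) ⬝ᵥ (w.1 + (c * lastFun r c w) • lastVec r F) := by
  simp only [LinearMap.sub_apply, Module.End.one_apply, add_sub_cancel, pairB_apply]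
  exact pairing_invariant _ _

theorem AltReal.single_even (hr : 1 ≤ r) : AltReal F {r + r} := by
  refine AltReal.mk altB_isAlt altB_sep (fun x y => ?_)
    (evenA_type hr (c := (0 : F)) (add_zero 0)).1 (evenA_type hr (c := (0 : F)) (add_zero 0)).2
  simp only [LinearMap.sub_apply, LinearMap.BilinForm.flip_apply]
  have h1 := evenA_apply_pair (r := r) (0 : F) x y
  have h2 := evenA_apply_pair (r := r) (0 : F) y x
  simp only [LinearMap.sub_apply] at h1 h2
  rw [h1, h2]
  simp [lastFun]
  ring

theorem QuadReal.single_even [CharP F 2] (hr : 1 ≤ r) : QuadReal F {r + r} := by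
  refine QuadReal.mk pairQ_sep (fun x => ?_)
    (evenA_type hr (CharTwo.add_self_eq_zero (1 : F))).1
    (evenA_type hr (CharTwo.add_self_eq_zero (1 : F))).2
  rw [LinearMap.BilinMap.toQuadraticMap_apply, LinearMap.BilinMap.toQuadraticMap_apply,
    evenA_apply_pair, pairB_apply, add_dotProduct, dotProduct_add, dotProduct_add, one_mul,
    dotProduct_smul, dotProduct_smul, smul_dotProduct, smul_dotProduct, lastVec_dot_self hr,
    dotProduct_comm x.2 (lastVec r F)]
  simp only [lastFun, LinearMap.coe_mk, AddHom.coe_mk, smul_eq_mul]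
  have h2 : (2 : F) = 0 := CharTwo.two_eq_zero
  linear_combination ((lastVec r F ⬝ᵥ x.1 + lastVec r F ⬝ᵥ x.2) *
    (lastVec r F ⬝ᵥ x.1 + lastVec r F ⬝ᵥ x.2)) * h2

/-! ### One block of odd size -/

/-- The form `φ · x + a * a`. -/
def oddB (r : ℕ) (F : Type*) [Field F] :
    LinearMap.BilinForm F ((Fin r → F) × F × (Fin r → F)) :=
  LinearMap.mk₂ F (fun v w => v.2.2 ⬝ᵥ w.1 + v.2.1 * w.2.1)
    (fun _ _ _ => by simp [add_dotProduct]; ring)
    (fun _ _ _ => by simp [smul_dotProduct]; ring)
    (fun _ _ _ => by simp [dotProduct_add]; ring)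
    (fun _ _ _ => by simp [dotProduct_smul]; ring)

@[simp] theorem oddB_apply (v w : (Fin r → F) × F × (Fin r → F)) :
    oddB r F v w = v.2.2 ⬝ᵥ w.1 + v.2.1 * w.2.1 := rfl

/-- A skew nilpotent with one block. -/
def oddT (r : ℕ) (F : Type*) [Field F] : Module.End F ((Fin r → F) × F × (Fin r → F)) where
  toFun v := (shM r F *ᵥ v.1, lastVec r F ⬝ᵥ v.1,
    -((2 * v.2.1) • lastVec r F) - v.2.2 ᵥ* shM r F)
  map_add' v w := by
    simp only [Prod.fst_add, Prod.snd_add, Matrix.mulVec_add, dotProduct_add, mul_add, add_smul,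
      Matrix.add_vecMul, Prod.mk_add_mk, Prod.mk.injEq]
    exact ⟨trivial, trivial, by abel⟩
  map_smul' a v := by
    simp only [Prod.smul_fst, Prod.smul_snd, Matrix.mulVec_smul, dotProduct_smul, RingHom.id_apply,
      Matrix.smul_vecMul, Prod.smul_mk, smul_eq_mul, smul_sub, smul_neg, smul_smul, Prod.mk.injEq]
    refine ⟨trivial, trivial, ?_⟩
    congr 3
    ring

theorem oddT_type (h2 : (2 : F) ≠ 0) :
    IsNilpotent (oddT r F) ∧ HasType (oddT r F) {r + r + 1} := by
  have hd : finrank F ((Fin r → F) × F × (Fin r → F)) = r + r + 1 := by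
    rw [Module.finrank_prod, Module.finrank_prod, finrank_fintype_fun_eq_card, Fintype.card_fin,
      Module.finrank_self]
    omega
  rcases Nat.eq_zero_or_pos r with rfl | hr
  · refine single_of_cyclic _ hd (v := (0, 1, 0)) (fun h => ?_) (Prod.ext (Subsingleton.elim _ _)
      (Prod.ext ?_ (Subsingleton.elim _ _)))
    · simpa using congrArg (fun p => p.2.1) h
    · show lastVec 0 F ⬝ᵥ (0 : Fin 0 → F) = 0
      simp
  set v : (Fin r → F) × F × (Fin r → F) := (firstVec r F, 0, 0) with hv
  have low : ∀ i, i ≤ r - 1 → (oddT r F ^ i) v = (shM r F ^ i *ᵥ firstVec r F, 0, 0) := by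
    intro i
    induction i with
    | zero => intro; simp [hv]
    | succ i ih =>
      intro hi
      rw [pow_succ', Module.End.mul_apply, ih (by omega)]
      simp [oddT, lastVec_dot_pow_first hr (show i < r - 1 by omega), Matrix.mulVec_mulVec,
        ← pow_succ']
  have mid : (oddT r F ^ r) v = (0, 1, 0) := by
    have e : oddT r F ^ r = oddT r F * oddT r F ^ (r - 1) := by
      rw [← pow_succ', Nat.sub_add_cancel hr]
    rw [e, Module.End.mul_apply, low _ le_rfl, shM_pow_first_last hr]
    simp [oddT, shM_mulVec_last, lastVec_dot_self hr]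
  have high : ∀ k, (oddT r F ^ (r + 1 + k)) v =
      (0, 0, (-2 * (-1) ^ k : F) • (lastVec r F ᵥ* shM r F ^ k)) := by
    intro k
    induction k with
    | zero =>
      rw [add_zero, pow_succ', Module.End.mul_apply, mid]
      simp [oddT]
    | succ k ih =>
      rw [← add_assoc, pow_succ', Module.End.mul_apply, ih]
      simp [oddT, Matrix.smul_vecMul, Matrix.neg_vecMul, Matrix.vecMul_vecMul, pow_succ]
  refine single_of_cyclic _ hd (v := v) (fun h => ?_) ?_
  · rw [show r + r + 1 - 1 = r + 1 + (r - 1) by omega, high] at h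
    have h' := congrArg (fun p : (Fin r → F) × F × (Fin r → F) => p.2.2 ⬝ᵥ firstVec r F) h
    simp only [smul_dotProduct, ← Matrix.dotProduct_mulVec, shM_pow_first_last hr,
      lastVec_dot_self hr, smul_eq_mul, mul_one, Prod.snd_zero, zero_dotProduct] at h'
    exact mul_ne_zero (neg_ne_zero.2 h2) (pow_ne_zero _ (neg_ne_zero.2 one_ne_zero)) h'
  · rw [show r + r + 1 = r + 1 + r by omega, high, shM_pow_self]
    simp

theorem oddT_skew (v : (Fin r → F) × F × (Fin r → F)) :
    oddB r F v (oddT r F v) + oddB r F (oddT r F v) v = 0 := by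
  simp [oddT, sub_dotProduct, neg_dotProduct, smul_dotProduct, ← Matrix.dotProduct_mulVec]
  ring

theorem QuadReal.single_odd (h2 : (2 : F) ≠ 0) : QuadReal F {r + r + 1} := by
  obtain ⟨hnil, hty⟩ := oddT_type (r := r) h2
  set T := oddT r F with hT
  have hu : IsUnit (1 - T) := hnil.isUnit_one_sub
  set w := Ring.inverse (1 - T) with hw
  have hwu : IsUnit w := IsUnit.ringInverse hu
  have hcw : Commute T w := by
    have h : Commute (1 - T) w :=
      (Ring.mul_inverse_cancel _ hu).trans (Ring.inverse_mul_cancel _ hu).symm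
    simpa using (Commute.one_left w).sub_left h
  have h2u : IsUnit ((2 : F) • w) := by
    rw [Algebra.smul_def]
    exact ((IsUnit.mk0 _ h2).map _).mul hwu
  have hc2 : Commute T ((2 : F) • w) := hcw.smul_right _
  have hN : IsNilpotent (T * ((2 : F) • w)) := hc2.isNilpotent_mul_right hnil
  refine QuadReal.mk (Q := (oddB r F).toQuadraticMap) (fun x hx => ?_) (fun x => ?_) hN
    (hasType_mul_unit h2u hc2 hty)
  · refine Prod.ext (funext fun i => ?_) (Prod.ext ?_ (funext fun i => ?_))
    · simpa [LinearMap.BilinMap.polar_toQuadraticMap] using hx (0, 0, Pi.single i 1)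
    · have h : x.2.1 + x.2.1 = 0 := by
        simpa [LinearMap.BilinMap.polar_toQuadraticMap] using hx (0, 1, 0)
      rw [← two_mul] at h
      exact (mul_eq_zero.1 h).resolve_left h2
    · simpa [LinearMap.BilinMap.polar_toQuadraticMap] using hx (Pi.single i 1, 0, 0)
  · have hx : w x - T (w x) = x := by
      conv_rhs => rw [← Module.End.one_apply (R := F) x, ← Ring.mul_inverse_cancel _ hu]
      rfl
    have hNx : (T * ((2 : F) • w)) x = T (w x) + T (w x) := by
      rw [Module.End.mul_apply, LinearMap.smul_apply, map_smul, two_smul]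
    rw [hNx]
    conv_rhs => rw [← hx]
    conv_lhs => rw [show x + (T (w x) + T (w x)) = w x + T (w x) by
      nth_rw 1 [← hx]; abel]
    simp only [LinearMap.BilinMap.toQuadraticMap_apply, map_add, map_sub, LinearMap.add_apply,
      LinearMap.sub_apply]
    linear_combination (2 : F) * oddT_skew (w x)

end Cfsg.Agent.UnipForms
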