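/-
Which Jordan types of unipotent isometries occur: assembling the pieces, and the parity conditions.
-/
import Cfsg.Agent.Lib.UnipForms.Models

set_option autoImplicit false
set_option linter.unusedSectionVars false

namespace Cfsg.Agent.UnipForms

open LinRep.JordanType Module

variable {F : Type*} [Field F]

/-- Building a type from single blocks of good sizes and pairs of blocks. -/
theorem build_type {P : Multiset ℕ → Prop} (good : ℕ → Prop) (h0 : P 0)
    (hadd : ∀ μ ν, P μ → P ν → P (μ + ν)) (hs : ∀ j, 1 ≤ j → good j → P {j})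
    (hp : ∀ j, 1 ≤ j → P {j, j}) :
    ∀ μ : Multiset ℕ, (∀ j ∈ μ, 1 ≤ j) → (∀ j, 1 ≤ j → ¬ good j → Even (μ.count j)) → P μ := by
  classical
  intro μ
  induction μ using Multiset.strongInductionOn with
  | _ μ ih =>
    intro hpos hev
    rcases Multiset.empty_or_exists_mem μ with rfl | ⟨j, hj⟩
    · exact h0
    by_cases hg : good j
    · have hlt : μ.erase j < μ := Multiset.erase_lt.2 hj
      have h := ih _ hlt (fun k hk => hpos k (Multiset.mem_of_mem_erase hk)) fun k hk hng => by
        rw [Multiset.count_erase_of_ne (fun e : k = j => hng (e ▸ hg))]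
        exact hev k hk hng
      rw [← Multiset.cons_erase hj, ← Multiset.singleton_add]
      exact hadd _ _ (hs j (hpos j hj) hg) h
    · have h1 : j ∈ μ.erase j := by
        rw [← Multiset.count_pos, Multiset.count_erase_self]
        obtain ⟨c, hc⟩ := hev j (hpos j hj) hg
        have := Multiset.count_pos.2 hj
        omega
      have hlt : (μ.erase j).erase j < μ :=
        (Multiset.erase_lt.2 h1).trans (Multiset.erase_lt.2 hj)
      have h := ih _ hlt
        (fun k hk => hpos k (Multiset.mem_of_mem_erase (Multiset.mem_of_mem_erase hk)))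
        fun k hk hng => by
          rcases eq_or_ne k j with rfl | hne
          · rw [Multiset.count_erase_self, Multiset.count_erase_self]
            obtain ⟨c, hc⟩ := hev k hk hng
            have := Multiset.count_pos.2 h1
            rw [Multiset.count_erase_self] at this
            exact ⟨c - 1, by omega⟩
          · rw [Multiset.count_erase_of_ne hne, Multiset.count_erase_of_ne hne]
            exact hev k hk hng
      have he : μ = {j, j} + (μ.erase j).erase j := by
        conv_lhs => rw [← Multiset.cons_erase hj, ← Multiset.cons_erase h1]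
        rw [show ({j, j} : Multiset ℕ) = j ::ₘ {j} from rfl, Multiset.cons_add, Multiset.singleton_add]
      rw [he]
      exact hadd _ _ (hp j (hpos j hj)) h

theorem altReal_of_parity (μ : Multiset ℕ) (hpos : ∀ j ∈ μ, 1 ≤ j)
    (h : ∀ j, Odd j → Even (μ.count j)) : AltReal F μ := by
  refine build_type Even AltReal.zero (fun _ _ => AltReal.add) ?_ (fun _ hj => AltReal.pair hj) μ hpos
    fun j _ hj => h j (Nat.not_even_iff_odd.1 hj)
  rintro j hj ⟨i, rfl⟩
  exact AltReal.single_even (by omega)

theorem quadReal_of_parity_odd (h2 : (2 : F) ≠ 0) (μ : Multiset ℕ) (hpos : ∀ j ∈ μ, 1 ≤ j)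
    (h : ∀ j, Even j → 0 < j → Even (μ.count j)) : QuadReal F μ := by
  refine build_type Odd QuadReal.zero (fun _ _ => QuadReal.add) ?_ (fun _ hj => QuadReal.pair hj) μ hpos
    fun j hj hg => h j (Nat.not_odd_iff_even.1 hg) hj
  rintro j _ ⟨i, rfl⟩
  rw [show 2 * i + 1 = i + i + 1 by omega]
  exact QuadReal.single_odd h2

theorem quadReal_of_parity_two [CharP F 2] (μ : Multiset ℕ) (hpos : ∀ j ∈ μ, 1 ≤ j)
    (h : ∀ j, Odd j → Even (μ.count j)) : QuadReal F μ := by
  refine build_type Even QuadReal.zero (fun _ _ => QuadReal.add) ?_ (fun _ hj => QuadReal.pair hj) μ hpos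
    fun j _ hj => h j (Nat.not_even_iff_odd.1 hj)
  rintro j hj ⟨i, rfl⟩
  exact QuadReal.single_even (by omega)

variable {V : Type*} [AddCommGroup V] [Module F V] [FiniteDimensional F V]

theorem even_count_of_odd {N : Module.End F V} {μ : Multiset ℕ} (h : HasType N μ)
    (hev : ∀ i, Even (rankDim N ⊤ (i + i))) {j : ℕ} (hj : Odd j) : Even (μ.count j) := by
  obtain ⟨i, rfl⟩ := hj
  rw [even_count_iff h]
  refine (show 2 * i = i + i by omega) ▸ ?_
  exact (hev i).add ((show i + i + 2 = (i + 1) + (i + 1) by omega) ▸ hev (i + 1))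

theorem even_count_of_even {N : Module.End F V} {μ : Multiset ℕ} (h : HasType N μ)
    (hev : ∀ i, Even (rankDim N ⊤ (i + i + 1))) {j : ℕ} (hj : Even j) (hpos : 0 < j) :
    Even (μ.count j) := by
  obtain ⟨i, rfl⟩ := hj
  rcases i with _ | i
  · omega
  rw [show i + 1 + (i + 1) = (i + i + 1) + 1 by omega, even_count_iff h]
  exact (hev i).add ((show i + i + 1 + 2 = (i + 1) + (i + 1) + 1 by omega) ▸ hev (i + 1))

theorem pos_of_mem_map {t : ℕ} {d : Fin t → ℕ} (hd : ∀ k, 1 ≤ d k) :
    ∀ j ∈ Finset.univ.val.map d, 1 ≤ j := fun j hj => by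
  obtain ⟨k, -, rfl⟩ := Multiset.mem_map.1 hj
  exact hd k

theorem finrank_of_hasType {N : Module.End F V} {t : ℕ} {d : Fin t → ℕ}
    (h : HasType N (Finset.univ.val.map d)) : finrank F V = ∑ k, d k := by
  rw [← rankDim_zero N, h 0]
  simp only [Nat.sub_zero, Multiset.map_id']
  rfl

variable {ι : Type} [Fintype ι] [DecidableEq ι]

/-- A quadratic form with a unipotent isometry of a realizable type, in coordinates. -/
theorem exists_matrix_isometry {n t : ℕ} {d : Fin t → ℕ} (hsum : ∑ k, d k = n)
    (h : QuadReal F (Finset.univ.val.map d)) :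
    ∃ Q : QuadraticForm F (Fin n → F), (QuadraticMap.polarBilin Q).Nondegenerate ∧
      ∃ e : ((k : Fin t) × Fin (d k)) ≃ Fin n, ∃ A : ↥(Cfsg.isometryGroup F ⇑Q),
        IsConj (Matrix.reindex e e (Cfsg.jordanTypeMatrix d F))
          ((A : Matrix.GeneralLinearGroup (Fin n) F) : Matrix (Fin n) (Fin n) F) := by
  obtain ⟨n', Q, N, hs, hi, hnil, hty⟩ := h
  have hn : n' = n := by
    rw [← hsum, ← finrank_of_hasType hty, Module.finrank_fintype_fun_eq_card, Fintype.card_fin]
  subst hn
  have hu : IsUnit (Matrix.toLinAlgEquiv'.symm (N + 1)) := (IsNilpotent.isUnit_add_one hnil).map _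
  have hN : Matrix.toLinAlgEquiv' ((hu.unit : Matrix (Fin n') (Fin n') F) - 1) = N := by
    rw [IsUnit.unit_spec, map_sub, AlgEquiv.apply_symm_apply, map_one, add_sub_cancel_right]
  have hmem : hu.unit ∈ Cfsg.isometryGroup F ⇑Q := by
    intro u v
    show Q (Matrix.toLinAlgEquiv' (hu.unit : Matrix (Fin n') (Fin n') F) u) = Q u
    rw [IsUnit.unit_spec, AlgEquiv.apply_symm_apply, LinearMap.add_apply, Module.End.one_apply,
      add_comm]
    exact hi u
  refine ⟨Q, ⟨fun x hx => hs x hx, fun y hy => hs y fun x => ?_⟩,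
    Fintype.equivOfCardEq (by simp [hsum]), ⟨hu.unit, hmem⟩, (isConj_jordan_iff d _ _).2 ?_⟩
  · rw [QuadraticMap.polar_comm]
    exact hy x
  · exact ⟨hN.symm ▸ hnil, hN.symm ▸ hty⟩

end Cfsg.Agent.UnipForms
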