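/-
Congruence of symmetric and alternating matrices over a finite field of odd order.
-/
import Cfsg.Agent.Lib.Forms.Classify
import Cfsg.Agent.Lib.Forms.Symp

set_option autoImplicit false
set_option linter.unusedSectionVars false

open Matrix

namespace Cfsg.Agent.UnipForms.Congruence

variable {F : Type*} [Field F] {ι : Type*} [Fintype ι] [DecidableEq ι]

theorem toBilin'_transpose (A : Matrix ι ι F) (u v : ι → F) :
    Matrix.toBilin' A u v = Matrix.toBilin' Aᵀ v u := by
  rw [Matrix.toBilin'_apply', Matrix.toBilin'_apply', Matrix.mulVec_transpose, Matrix.dotProduct_mulVec,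
    dotProduct_comm]

theorem toBilin'_comp {κ : Type*} [Fintype κ] [DecidableEq κ] (A : Matrix κ κ F) (T : Matrix κ ι F) (u v : ι → F) :
    Matrix.toBilin' (Tᵀ * A * T) u v = Matrix.toBilin' A (T *ᵥ u) (T *ᵥ v) := by
  rw [Matrix.toBilin'_apply', Matrix.toBilin'_apply', ← Matrix.mulVec_mulVec, ← Matrix.mulVec_mulVec,
    Matrix.dotProduct_mulVec, Matrix.vecMul_transpose]

theorem toBilin'_sep {A : Matrix ι ι F} (hA : A.det ≠ 0) (x : ι → F) (hx : ∀ y, Matrix.toBilin' A x y = 0) : x = 0 :=
  (LinearMap.BilinForm.nondegenerate_toBilin'_of_det_ne_zero' A hA).1 x hx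

/-- An alternating nonsingular matrix in symplectic coordinates. -/
theorem exists_symp {A : Matrix ι ι F} (h2 : (2 : F) ≠ 0) (hsk : Aᵀ = -A) (hA : A.det ≠ 0) :
    ∃ (m : ℕ) (T : Matrix (Fin m ⊕ Fin m) ι F) (T' : Matrix ι (Fin m ⊕ Fin m) F),
      T * T' = 1 ∧ T' * T = 1 ∧ Tᵀ * Matrix.J (Fin m) F * T = A ∧ Fintype.card ι = 2 * m := by
  classical
  set B := Matrix.toBilin' (-A) with hB
  have halt : B.IsAlt := fun v => by
    have h : B v v = -B v v := by
      conv_lhs => rw [hB, toBilin'_transpose, transpose_neg, hsk, neg_neg]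
      rw [hB, map_neg, LinearMap.neg_apply, LinearMap.neg_apply, neg_neg]
    have h' : (2 : F) * B v v = 0 := by linear_combination h
    exact (mul_eq_zero.1 h').resolve_left h2
  obtain ⟨m, k, e, he⟩ := Forms.exists_alt_coords B halt
  have hA' : (-A).det ≠ 0 := by
    rw [det_neg]; exact mul_ne_zero (pow_ne_zero _ (by simp)) hA
  obtain rfl : k = 0 := by
    by_contra hk
    let i : Fin k := ⟨0, Nat.pos_of_ne_zero hk⟩
    have h1 := toBilin'_sep hA' (e.symm (Pi.single (Sum.inr i) 1)) fun y => by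
      show B _ y = 0
      rw [he, show (fun j => e (e.symm (Pi.single (Sum.inr i) (1 : F))) (Sum.inl j)) = 0 by
        funext j; simp, sympForm, Matrix.mulVec_zero, dotProduct_zero]
    simpa using congrFun ((LinearEquiv.map_eq_zero_iff _).1 h1) (Sum.inr i)
  let e' : (ι → F) ≃ₗ[F] (Fin m ⊕ Fin m → F) :=
    e.trans (LinearEquiv.funCongrLeft F F (Equiv.sumEmpty (Fin m ⊕ Fin m) (Fin 0)).symm)
  refine ⟨m, LinearMap.toMatrix' e'.toLinearMap, LinearMap.toMatrix' e'.symm.toLinearMap, ?_, ?_, ?_, ?_⟩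
  · rw [← LinearMap.toMatrix'_comp, LinearEquiv.comp_symm, LinearMap.toMatrix'_id]
  · rw [← LinearMap.toMatrix'_comp, LinearEquiv.symm_comp, LinearMap.toMatrix'_id]
  · apply Matrix.toBilin'.injective
    refine LinearMap.ext₂ fun u v => ?_
    rw [toBilin'_comp, LinearMap.toMatrix'_mulVec, LinearMap.toMatrix'_mulVec]
    have h := he v u
    rw [hB, toBilin'_transpose, transpose_neg, hsk, neg_neg] at h
    rw [h, Matrix.toBilin'_apply']
    rfl
  · have := e'.finrank_eq
    simp only [Module.finrank_fintype_fun_eq_card, Fintype.card_sum, Fintype.card_fin] at this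
    omega

/-- Nonsingular alternating matrices of the same size are congruent. -/
theorem exists_congr_alt {A B : Matrix ι ι F} (h2 : (2 : F) ≠ 0) (hA : Aᵀ = -A) (hAd : A.det ≠ 0)
    (hB : Bᵀ = -B) (hBd : B.det ≠ 0) : ∃ P : Matrix ι ι F, P.det ≠ 0 ∧ Pᵀ * A * P = B := by
  obtain ⟨m, T, T', hTT, hT'T, hT, hm⟩ := exists_symp h2 hA hAd
  obtain ⟨m', S, S', hSS, hS'S, hS, hm'⟩ := exists_symp h2 hB hBd
  obtain rfl : m = m' := by omega
  have hP : (T' * S)ᵀ * A * (T' * S) = B := by
    rw [← hT, ← hS, transpose_mul]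
    calc Sᵀ * T'ᵀ * (Tᵀ * Matrix.J (Fin m) F * T) * (T' * S)
        = Sᵀ * ((T * T')ᵀ * Matrix.J (Fin m) F * (T * T')) * S := by
          rw [transpose_mul]; simp only [Matrix.mul_assoc]
      _ = Sᵀ * Matrix.J (Fin m) F * S := by rw [hTT, transpose_one, Matrix.one_mul, Matrix.mul_one]
  refine ⟨T' * S, fun h0 => hBd ?_, hP⟩
  rw [← hP, det_mul, h0, mul_zero]

/-- Symmetric nonsingular matrices with determinants in the same square class are congruent. -/
theorem exists_congr_symm [Fintype F] {A B : Matrix ι ι F} (h2 : (2 : F) ≠ 0) (hA : Aᵀ = A) (hAd : A.det ≠ 0)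
    (hB : Bᵀ = B) (hBd : B.det ≠ 0) (hsq : IsSquare (A.det * B.det)) :
    ∃ P : Matrix ι ι F, P.det ≠ 0 ∧ Pᵀ * A * P = B := by
  classical
  by_cases hι : Fintype.card ι = 0
  · haveI := Fintype.card_eq_zero_iff.1 hι
    exact ⟨1, by rw [det_one]; exact one_ne_zero, Matrix.ext fun i => isEmptyElim i⟩
  obtain ⟨n, hn⟩ : ∃ n, Fintype.card ι = n + 1 := ⟨Fintype.card ι - 1, by omega⟩
  obtain ⟨α, hα⟩ := FiniteField.exists_nonsquare (F := F) fun h => h2 (by
    have := ringChar.of_eq h
    exact CharTwo.two_eq_zero)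
  let ε : Fin (n + 1) ≃ ι := (Fintype.equivFinOfCardEq hn).symm
  have key : ∀ C : Matrix ι ι F, Cᵀ = C → C.det ≠ 0 → ∃ (E : Matrix (Fin (n + 1)) ι F) (c : F),
      (c = 1 ∨ c = α) ∧ C = Eᵀ * Matrix.diagonal (fun i => if i = Fin.last n then c else 1) * E ∧
      (E.submatrix id ε).det ≠ 0 ∧ C.det = (E.submatrix id ε).det ^ 2 * c := by
    intro C hC hCd
    obtain ⟨e, c, hc, he⟩ := Forms.exists_symm_coords h2 (B := Matrix.toBilin' C)
      (fun x y => by rw [toBilin'_transpose, hC]) (fun x hx => toBilin'_sep hCd x hx)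
      (n := n) (by rw [Module.finrank_fintype_fun_eq_card, hn]) hα
    set E := LinearMap.toMatrix' e.toLinearMap with hE
    set D := Matrix.diagonal (fun i : Fin (n + 1) => if i = Fin.last n then c else 1) with hD
    have hCE : C = Eᵀ * D * E := by
      apply Matrix.toBilin'.injective
      refine LinearMap.ext₂ fun u v => ?_
      rw [he, toBilin'_comp, LinearMap.toMatrix'_mulVec, LinearMap.toMatrix'_mulVec, Matrix.toBilin'_apply']
      simp only [hD, dotProduct, Matrix.mulVec_diagonal, LinearEquiv.coe_coe]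
      exact Finset.sum_congr rfl fun i _ => by ring
    have hdet : C.det = (E.submatrix id ε).det ^ 2 * c := by
      rw [← Matrix.det_submatrix_equiv_self ε C, hCE,
        Matrix.submatrix_mul _ _ ε id ε Function.bijective_id,
        Matrix.submatrix_mul _ _ ε id id Function.bijective_id, Matrix.submatrix_id_id, det_mul, det_mul,
        ← Matrix.transpose_submatrix, det_transpose, hD, det_diagonal,
        Finset.prod_ite_eq' Finset.univ (Fin.last n) (fun _ => c)]
      simp only [Finset.mem_univ, if_true]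
      ring
    refine ⟨E, c, hc, hCE, fun h0 => hCd ?_, hdet⟩
    rw [hdet, h0]; ring
  obtain ⟨E, c, hc, hAE, hE, hEd⟩ := key A hA hAd
  obtain ⟨E', c', hc', hBE, hE', hEd'⟩ := key B hB hBd
  obtain rfl : c = c' := by
    obtain ⟨r, hr⟩ := hsq
    rw [hEd, hEd'] at hr
    have hne : ((E.submatrix id ε).det * (E'.submatrix id ε).det) ≠ 0 := mul_ne_zero hE hE'
    have hcc : IsSquare (c * c') :=
      ⟨r / ((E.submatrix id ε).det * (E'.submatrix id ε).det), by field_simp; linear_combination hr⟩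
    rcases hc with rfl | rfl <;> rcases hc' with rfl | rfl
    · rfl
    · rw [one_mul] at hcc; exact absurd hcc hα
    · rw [mul_one] at hcc; exact absurd hcc hα
    · rfl
  set P₀ := (E.submatrix id ε)⁻¹ with hP₀
  have hu : IsUnit (E.submatrix id ε).det := isUnit_iff_ne_zero.2 hE
  set P : Matrix ι ι F := Matrix.of fun i j => (P₀ * E') (ε.symm i) j with hP
  have hEP : E * P = E' := by
    ext a j
    calc (E * P) a j = ((E.submatrix id ε) * (P₀ * E')) a j := by
          rw [Matrix.mul_apply, Matrix.mul_apply]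
          exact (Fintype.sum_equiv ε _ _ fun b => by simp [hP]).symm
      _ = E' a j := by rw [← Matrix.mul_assoc, hP₀, Matrix.mul_nonsing_inv _ hu, Matrix.one_mul]
  have hPAP : Pᵀ * A * P = B := by
    rw [hAE, hBE, ← hEP, transpose_mul]
    simp only [Matrix.mul_assoc]
  refine ⟨P, fun h0 => hBd ?_, hPAP⟩
  rw [← hPAP, det_mul, h0, mul_zero]

/-- An alternating nonsingular matrix has even size. -/
theorem even_card_of_alt {A : Matrix ι ι F} (h2 : (2 : F) ≠ 0) (hA : Aᵀ = -A) (hAd : A.det ≠ 0) :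
    Even (Fintype.card ι) := by
  obtain ⟨m, -, -, -, -, -, hm⟩ := exists_symp h2 hA hAd
  exact ⟨m, by omega⟩

theorem isSquare_mul_of_iff [Fintype F] {a b : F} (ha : a ≠ 0) (hb : b ≠ 0) (h : IsSquare a ↔ IsSquare b) :
    IsSquare (a * b) := by
  classical
  rw [← quadraticChar_one_iff_isSquare (mul_ne_zero ha hb), map_mul]
  rcases quadraticChar_dichotomy ha with h1 | h1
  · rw [h1, (quadraticChar_one_iff_isSquare hb).2 (h.1 ((quadraticChar_one_iff_isSquare ha).1 h1))]
    norm_num
  · rcases quadraticChar_dichotomy hb with h3 | h3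
    · rw [(quadraticChar_one_iff_isSquare ha).2 (h.2 ((quadraticChar_one_iff_isSquare hb).1 h3))] at h1
      norm_num at h1
    · rw [h1, h3]; norm_num

end Cfsg.Agent.UnipForms.Congruence
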