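/-
Unipotent elements of symplectic groups in odd characteristic: the Cayley model and the transfer to forms.
-/
import Cfsg.Agent.Lib.UnipCentralizer.Leading
import Cfsg.Agent.Lib.UnipForms.Congruence
import Cfsg.Agent.Lib.UnipForms.Types

set_option autoImplicit false
set_option linter.unusedSectionVars false

open Matrix

namespace Cfsg.Agent.UnipForms.SympUnipotent

open Cfsg.Agent.UnipCentralizer Cfsg.Agent.UnipCentralizer.Leading LinRep.JordanType

variable {F : Type*} [Field F]

/-! ### Transfer between classes and forms -/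

section Transfer

variable {m : ℕ} {κ : Type*} [Fintype κ] [DecidableEq κ]

/-- Coordinates in which an element of the symplectic group has matrix `G`. -/
structure Coords (g : Matrix.symplecticGroup (Fin m) F) (G : Matrix κ κ F) where
  T : Matrix (Fin m ⊕ Fin m) κ F
  T' : Matrix κ (Fin m ⊕ Fin m) F
  hTT' : T * T' = 1
  hT'T : T' * T = 1
  hG : (g : Matrix (Fin m ⊕ Fin m) (Fin m ⊕ Fin m) F) * T = T * G

variable {g h : Matrix.symplecticGroup (Fin m) F} {G : Matrix κ κ F}

/-- The form in the coordinates. -/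
def Coords.form (C : Coords g G) : Matrix κ κ F := C.Tᵀ * Matrix.J (Fin m) F * C.T

theorem Coords.form_inv (C : Coords g G) : Gᵀ * C.form * G = C.form := by
  have hg := SymplecticGroup.mem_iff'.1 g.2
  calc Gᵀ * C.form * G = (C.T * G)ᵀ * Matrix.J (Fin m) F * (C.T * G) := by
        rw [Coords.form, transpose_mul]; simp only [Matrix.mul_assoc]
    _ = C.Tᵀ * ((g : Matrix (Fin m ⊕ Fin m) (Fin m ⊕ Fin m) F)ᵀ * Matrix.J (Fin m) F *
        (g : Matrix (Fin m ⊕ Fin m) (Fin m ⊕ Fin m) F)) * C.T := by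
        rw [← C.hG, transpose_mul]; simp only [Matrix.mul_assoc]
    _ = C.form := by rw [hg]; rfl

theorem Coords.form_transpose (C : Coords g G) : C.formᵀ = -C.form := by
  rw [Coords.form, transpose_mul, transpose_mul, transpose_transpose, Matrix.J_transpose, Matrix.neg_mul,
    Matrix.mul_neg, Matrix.mul_assoc]

theorem Coords.card_eq (C : Coords g G) : Fintype.card κ = Fintype.card (Fin m ⊕ Fin m) := by
  have e : (κ → F) ≃ₗ[F] (Fin m ⊕ Fin m → F) := Matrix.toLin'OfInv C.hT'T C.hTT'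
  have := e.finrank_eq
  rwa [Module.finrank_fintype_fun_eq_card, Module.finrank_fintype_fun_eq_card] at this

theorem Coords.form_det (C : Coords g G) : C.form.det ≠ 0 := by
  intro h0
  obtain ⟨v, hv, hMv⟩ := Matrix.exists_mulVec_eq_zero_iff.2 h0
  apply hv
  have h1 : (Matrix.J (Fin m) F) *ᵥ (C.T *ᵥ v) = 0 := by
    have h := congrArg (fun w => C.T'ᵀ *ᵥ w) hMv
    simp only [Coords.form, Matrix.mulVec_mulVec, Matrix.mulVec_zero, ← Matrix.mul_assoc, ← transpose_mul,
      C.hTT', transpose_one, Matrix.one_mul] at h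
    rwa [Matrix.mulVec_mulVec]
  have hJ : (Matrix.J (Fin m) F).det ≠ 0 := (Matrix.isUnit_det_J _ _).ne_zero
  have h2 : C.T *ᵥ v = 0 := by
    by_contra h
    exact hJ (Matrix.exists_mulVec_eq_zero_iff.1 ⟨_, h, h1⟩)
  have := congrArg (fun w => C.T' *ᵥ w) h2
  simpa [Matrix.mulVec_mulVec, C.hT'T] using this

/-- Congruent forms give conjugate elements. -/
theorem isConj_of_congr (C : Coords g G) (D : Coords h G) (c : Matrix κ κ F) (hc : c * G = G * c)
    (hcong : cᵀ * C.form * c = D.form) : IsConj g h := by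
  set U : Matrix (Fin m ⊕ Fin m) (Fin m ⊕ Fin m) F := C.T * c * D.T' with hU
  have hUJ : Uᵀ * Matrix.J (Fin m) F * U = Matrix.J (Fin m) F := by
    calc Uᵀ * Matrix.J (Fin m) F * U = D.T'ᵀ * (cᵀ * C.form * c) * D.T' := by
          rw [hU, Coords.form, transpose_mul, transpose_mul]; simp only [Matrix.mul_assoc]
      _ = (D.T * D.T')ᵀ * Matrix.J (Fin m) F * (D.T * D.T') := by
          rw [hcong, Coords.form, transpose_mul]; simp only [Matrix.mul_assoc]
      _ = Matrix.J (Fin m) F := by rw [D.hTT', transpose_one, Matrix.one_mul, Matrix.mul_one]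
  have hmem : U ∈ Matrix.symplecticGroup (Fin m) F := SymplecticGroup.mem_iff'.2 hUJ
  have hgh : (g : Matrix (Fin m ⊕ Fin m) (Fin m ⊕ Fin m) F) * U = U * h := by
    have hh : D.T' * (h : Matrix (Fin m ⊕ Fin m) (Fin m ⊕ Fin m) F) = G * D.T' := by
      calc D.T' * (h : Matrix (Fin m ⊕ Fin m) (Fin m ⊕ Fin m) F)
          = D.T' * ((h : Matrix (Fin m ⊕ Fin m) (Fin m ⊕ Fin m) F) * D.T) * D.T' := by
            rw [Matrix.mul_assoc, Matrix.mul_assoc, D.hTT', Matrix.mul_one]
        _ = G * D.T' := by rw [D.hG, ← Matrix.mul_assoc D.T', D.hT'T, Matrix.one_mul]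
    calc (g : Matrix (Fin m ⊕ Fin m) (Fin m ⊕ Fin m) F) * U
        = C.T * (G * c) * D.T' := by
          rw [hU, ← Matrix.mul_assoc, ← Matrix.mul_assoc, C.hG]; simp only [Matrix.mul_assoc]
      _ = U * h := by rw [← hc, hU]; simp only [Matrix.mul_assoc, hh]
  refine IsConj.symm (isConj_iff.2 ⟨⟨U, hmem⟩, ?_⟩)
  rw [mul_inv_eq_iff_eq_mul]
  exact Subtype.ext hgh.symm

/-- Conjugate elements have congruent forms. -/
theorem exists_congr_of_isConj (C : Coords g G) (D : Coords h G) (hgh : IsConj g h) :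
    ∃ c : Matrix κ κ F, c * G = G * c ∧ cᵀ * C.form * c = D.form := by
  obtain ⟨x, hx⟩ := isConj_iff.1 hgh.symm
  rw [mul_inv_eq_iff_eq_mul] at hx
  have hx' : (x : Matrix (Fin m ⊕ Fin m) (Fin m ⊕ Fin m) F) * (h : Matrix (Fin m ⊕ Fin m) (Fin m ⊕ Fin m) F) =
      (g : Matrix (Fin m ⊕ Fin m) (Fin m ⊕ Fin m) F) * (x : Matrix (Fin m ⊕ Fin m) (Fin m ⊕ Fin m) F) :=
    congrArg Subtype.val hx
  have hg : C.T' * (g : Matrix (Fin m ⊕ Fin m) (Fin m ⊕ Fin m) F) = G * C.T' := by
    calc C.T' * (g : Matrix (Fin m ⊕ Fin m) (Fin m ⊕ Fin m) F)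
        = C.T' * ((g : Matrix (Fin m ⊕ Fin m) (Fin m ⊕ Fin m) F) * C.T) * C.T' := by
          rw [Matrix.mul_assoc, Matrix.mul_assoc, C.hTT', Matrix.mul_one]
      _ = G * C.T' := by rw [C.hG, ← Matrix.mul_assoc C.T', C.hT'T, Matrix.one_mul]
  refine ⟨C.T' * (x : Matrix (Fin m ⊕ Fin m) (Fin m ⊕ Fin m) F) * D.T, ?_, ?_⟩
  · calc C.T' * (x : Matrix (Fin m ⊕ Fin m) (Fin m ⊕ Fin m) F) * D.T * G
        = C.T' * ((x : Matrix (Fin m ⊕ Fin m) (Fin m ⊕ Fin m) F) * (h : Matrix (Fin m ⊕ Fin m) (Fin m ⊕ Fin m) F)) * D.T := by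
          rw [Matrix.mul_assoc _ D.T, ← D.hG]; simp only [Matrix.mul_assoc]
      _ = G * (C.T' * (x : Matrix (Fin m ⊕ Fin m) (Fin m ⊕ Fin m) F) * D.T) := by
          rw [hx', ← Matrix.mul_assoc, hg]; simp only [Matrix.mul_assoc]
  · have hxJ := SymplecticGroup.mem_iff'.1 x.2
    calc _ = D.Tᵀ * ((x : Matrix (Fin m ⊕ Fin m) (Fin m ⊕ Fin m) F)ᵀ *
          ((C.T * C.T')ᵀ * Matrix.J (Fin m) F * (C.T * C.T')) * (x : Matrix (Fin m ⊕ Fin m) (Fin m ⊕ Fin m) F)) * D.T := by
          simp only [Coords.form, transpose_mul, Matrix.mul_assoc]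
      _ = D.form := by rw [C.hTT', transpose_one, Matrix.one_mul, Matrix.mul_one, hxJ]; rfl

/-- Every invariant form comes from an element of the symplectic group. -/
theorem exists_coords_of_form (h2 : (2 : F) ≠ 0) (hκ : Fintype.card κ = 2 * m) {Y : Matrix κ κ F} (hY : Yᵀ = -Y)
    (hYd : Y.det ≠ 0) (hG : Gᵀ * Y * G = Y) :
    ∃ (g : Matrix.symplecticGroup (Fin m) F) (C : Coords g G), C.form = Y := by
  obtain ⟨m', T, T', hTT, hT'T, hT, hm⟩ := Congruence.exists_symp h2 hY hYd
  obtain rfl : m' = m := by omega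
  have hmem : T * G * T' ∈ Matrix.symplecticGroup (Fin m') F := SymplecticGroup.mem_iff'.2 (by
    calc (T * G * T')ᵀ * Matrix.J (Fin m') F * (T * G * T')
        = T'ᵀ * (Gᵀ * (Tᵀ * Matrix.J (Fin m') F * T) * G) * T' := by
          rw [transpose_mul, transpose_mul]; simp only [Matrix.mul_assoc]
      _ = (T * T')ᵀ * Matrix.J (Fin m') F * (T * T') := by
          rw [hT, hG, ← hT, transpose_mul]; simp only [Matrix.mul_assoc]
      _ = Matrix.J (Fin m') F := by rw [hTT, transpose_one, Matrix.one_mul, Matrix.mul_one])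
  refine ⟨⟨_, hmem⟩, ⟨T, T', hTT, hT'T, ?_⟩, hT⟩
  show T * G * T' * T = T * G
  rw [Matrix.mul_assoc, hT'T, Matrix.mul_one]

/-- Coordinates from a similarity. -/
theorem exists_coords_of_conj {A : Matrix (Fin m ⊕ Fin m) (Fin m ⊕ Fin m) F} (e : κ ≃ Fin m ⊕ Fin m)
    (hgA : (g : Matrix (Fin m ⊕ Fin m) (Fin m ⊕ Fin m) F) = A) (h : IsConj (Matrix.reindex e e G) A) :
    Nonempty (Coords g G) := by
  obtain ⟨c, hc⟩ := h
  have hc' : (c : Matrix (Fin m ⊕ Fin m) (Fin m ⊕ Fin m) F) * Matrix.reindex e e G =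
      A * (c : Matrix (Fin m ⊕ Fin m) (Fin m ⊕ Fin m) F) := hc
  refine ⟨⟨(c : Matrix (Fin m ⊕ Fin m) (Fin m ⊕ Fin m) F).submatrix id e,
    (↑c⁻¹ : Matrix (Fin m ⊕ Fin m) (Fin m ⊕ Fin m) F).submatrix e id, ?_, ?_, ?_⟩⟩
  · rw [← Matrix.submatrix_mul _ _ _ e _ e.bijective, Units.mul_inv, Matrix.submatrix_id_id]
  · rw [← Matrix.submatrix_mul _ _ _ id _ Function.bijective_id, Units.inv_mul,
      Matrix.submatrix_one _ e.injective]
  · have hG' : G = (Matrix.reindex e e G).submatrix e e := by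
      ext i j; simp
    conv_rhs => rw [hG', ← Matrix.submatrix_mul _ _ _ e _ e.bijective, hc']
    rw [hgA]
    rfl

end Transfer

/-! ### The Cayley model -/

section Cayley

variable {t : ℕ} (d : Fin t → ℕ)

/-- The Cayley transform of the nilpotent block matrix. -/
noncomputable def cay : Matrix (Pos d) (Pos d) F := (1 + Nil d) * (1 - Nil d)⁻¹

theorem isNilpotent_nil : IsNilpotent (Nil (F := F) d) := by
  refine (IsNilpotent.map_iff Matrix.toLinAlgEquiv'.injective).1 ?_
  have h : Matrix.toLinAlgEquiv' (Nil (F := F) d) = shiftFun d :=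
    LinearMap.ext fun w => UnipForms.jordanTypeMatrix_sub_one_mulVec d w
  rw [h]
  exact UnipForms.isNilpotent_shiftFun d

theorem isUnit_det_one_add : IsUnit (1 + Nil (F := F) d).det :=
  (Matrix.isUnit_iff_isUnit_det _).1 (isNilpotent_nil d).isUnit_one_add

theorem isUnit_det_one_sub : IsUnit (1 - Nil (F := F) d).det :=
  (Matrix.isUnit_iff_isUnit_det _).1 (isNilpotent_nil d).isUnit_one_sub

theorem cay_mul : cay (F := F) d * (1 - Nil d) = 1 + Nil d := by
  rw [cay, Matrix.mul_assoc, Matrix.nonsing_inv_mul _ (isUnit_det_one_sub d), Matrix.mul_one]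

theorem cay_invariant_iff (h2 : (2 : F) ≠ 0) (Y : Matrix (Pos d) (Pos d) F) :
    (cay d)ᵀ * Y * cay d = Y ↔ (Nil d)ᵀ * Y = -(Y * Nil d) := by
  have key : (cay d)ᵀ * Y * cay d = Y ↔ (1 + Nil d)ᵀ * Y * (1 + Nil d) = (1 - Nil d)ᵀ * Y * (1 - Nil d) := by
    constructor
    · intro h
      calc (1 + Nil d)ᵀ * Y * (1 + Nil d) = (1 - Nil d)ᵀ * ((cay d)ᵀ * Y * cay d) * (1 - Nil d) := by
            rw [← cay_mul, transpose_mul]; simp only [Matrix.mul_assoc]
        _ = _ := by rw [h]
    · intro h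
      have hu := isUnit_det_one_sub (F := F) d
      calc (cay d)ᵀ * Y * cay d = ((1 - Nil d)⁻¹)ᵀ * ((1 + Nil d)ᵀ * Y * (1 + Nil d)) * (1 - Nil d)⁻¹ := by
            rw [cay, transpose_mul]; simp only [Matrix.mul_assoc]
        _ = ((1 - Nil d) * (1 - Nil d)⁻¹)ᵀ * Y * ((1 - Nil d) * (1 - Nil d)⁻¹) := by
            rw [h, transpose_mul]; simp only [Matrix.mul_assoc]
        _ = Y := by rw [Matrix.mul_nonsing_inv _ hu, transpose_one, Matrix.one_mul, Matrix.mul_one]
  rw [key]
  generalize (Nil d : Matrix (Pos d) (Pos d) F) = N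
  simp only [transpose_add, transpose_sub, transpose_one, add_mul, mul_add, sub_mul, mul_sub, Matrix.one_mul,
    Matrix.mul_one]
  constructor
  · intro h
    have h' : (2 : F) • (Nᵀ * Y + Y * N) = 0 := by
      rw [two_smul]
      rw [← sub_eq_zero] at h
      rw [← h]
      abel
    rw [smul_eq_zero, or_iff_right h2] at h'
    exact eq_neg_of_add_eq_zero_left h'
  · intro h
    rw [h]
    abel

theorem commute_cay_iff (h2 : (2 : F) ≠ 0) (M : Matrix (Pos d) (Pos d) F) :
    M * cay d = cay d * M ↔ InComm d M := by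
  have h1 : Commute M (1 - Nil d) ↔ InComm d M := by
    rw [inComm_iff, commute_iff_eq, mul_sub, sub_mul, Matrix.mul_one, Matrix.one_mul, sub_right_inj]
  constructor
  · intro h
    have hsum : cay (F := F) d + 1 = (2 : F) • (1 - Nil d)⁻¹ := by
      conv_lhs => arg 2; rw [← Matrix.mul_nonsing_inv _ (isUnit_det_one_sub (F := F) d)]
      rw [cay, ← Matrix.add_mul, show (1 + Nil d) + (1 - Nil d) = (2 : F) • (1 : Matrix (Pos d) (Pos d) F) by
        rw [two_smul]; abel, Matrix.smul_mul, Matrix.one_mul]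
    have h3 : Commute M ((1 - Nil (F := F) d)⁻¹) := by
      have h4 : Commute M ((2 : F) • (1 - Nil (F := F) d)⁻¹) := hsum ▸ (Commute.add_right h (Commute.one_right M))
      have h5 := h4.smul_right (2 : F)⁻¹
      rwa [smul_smul, inv_mul_cancel₀ h2, one_smul] at h5
    refine h1.1 ?_
    have hu := isUnit_det_one_sub (F := F) d
    show M * (1 - Nil d) = (1 - Nil d) * M
    calc M * (1 - Nil d) = (1 - Nil d) * ((1 - Nil d)⁻¹ * M) * (1 - Nil d) := by
          rw [← Matrix.mul_assoc, Matrix.mul_nonsing_inv _ hu, Matrix.one_mul]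
      _ = (1 - Nil d) * M := by
          rw [← h3.eq, Matrix.mul_assoc, Matrix.mul_assoc, Matrix.nonsing_inv_mul _ hu, Matrix.mul_one]
  · intro h
    have hu := isUnit_det_one_sub (F := F) d
    have hA := (h1.2 h).eq
    have hB : M * (1 + Nil d) = (1 + Nil d) * M := by
      rw [mul_add, add_mul, (inComm_iff d M).1 h, Matrix.mul_one, Matrix.one_mul]
    calc M * cay d = (1 + Nil d) * ((1 - Nil d)⁻¹ * (1 - Nil d)) * M * (1 - Nil d)⁻¹ := by
          rw [Matrix.nonsing_inv_mul _ hu, Matrix.mul_one, cay, ← Matrix.mul_assoc, hB]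
      _ = cay d * M := by
          rw [cay]
          simp only [Matrix.mul_assoc]
          rw [← Matrix.mul_assoc (1 - Nil d) M, ← hA, Matrix.mul_assoc M, Matrix.mul_nonsing_inv _ hu,
            Matrix.mul_one]

/-- The Cayley model is similar to the block matrix. -/
theorem isConj_cay (h2 : (2 : F) ≠ 0) : IsConj (jordanTypeMatrix d F) (cay (F := F) d) := by
  have h := (UnipForms.isConj_jordan_iff d (Equiv.refl (Pos d)) (cay (F := F) d)).2
  rw [show Matrix.reindex (Equiv.refl (Pos d)) (Equiv.refl (Pos d)) (jordanTypeMatrix d F) = jordanTypeMatrix d F from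
    rfl] at h
  have hu := isUnit_det_one_sub (F := F) d
  have hsub : cay (F := F) d - 1 = Nil d * ((2 : F) • (1 - Nil d)⁻¹) := by
    conv_lhs => arg 2; rw [← Matrix.mul_nonsing_inv _ hu]
    rw [cay, ← Matrix.sub_mul, show (1 + Nil d) - (1 - Nil d) = (2 : F) • Nil (F := F) d by
      rw [two_smul]; abel, Matrix.smul_mul, Matrix.mul_smul]
  have hU : IsUnit ((2 : F) • (1 - Nil (F := F) d)⁻¹) := by
    rw [Matrix.isUnit_iff_isUnit_det, det_smul]
    exact ((IsUnit.mk0 _ h2).pow _).mul (Matrix.isUnit_nonsing_inv_det _ hu)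
  have hc : Commute (Nil (F := F) d) ((2 : F) • (1 - Nil (F := F) d)⁻¹) := by
    refine Commute.smul_right ?_ _
    show Nil d * _ = _ * Nil d
    calc Nil d * (1 - Nil (F := F) d)⁻¹
        = (1 - Nil d)⁻¹ * ((1 - Nil d) * Nil d) * (1 - Nil d)⁻¹ := by
          rw [← Matrix.mul_assoc, Matrix.nonsing_inv_mul _ hu, Matrix.one_mul]
      _ = (1 - Nil d)⁻¹ * Nil d := by
          rw [show (1 - Nil (F := F) d) * Nil d = Nil d * (1 - Nil d) from ((Commute.one_left _).sub_left (Commute.refl _)).eq,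
            Matrix.mul_assoc, Matrix.mul_assoc, Matrix.mul_nonsing_inv _ hu, Matrix.mul_one]
  refine h ⟨?_, ?_⟩
  · rw [hsub]
    exact (hc.isNilpotent_mul_right (isNilpotent_nil d)).map _
  · rw [hsub, map_mul]
    refine UnipForms.hasType_mul_unit (hU.map _) (hc.map _) ?_
    have h' : Matrix.toLinAlgEquiv' (Nil (F := F) d) = shiftFun d :=
      LinearMap.ext fun w => UnipForms.jordanTypeMatrix_sub_one_mulVec d w
    rw [h']
    exact shiftFun_hasType d

variable {m : ℕ} (hd : ∀ k, 1 ≤ d k)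

theorem isForm_of_coords (h2 : (2 : F) ≠ 0) {g : Matrix.symplecticGroup (Fin m) F} (C : Coords g (cay (F := F) d)) :
    IsForm d C.form :=
  ⟨C.form_transpose, C.form_det, (cay_invariant_iff d h2 _).1 C.form_inv⟩

theorem exists_coords_cay (h2 : (2 : F) ≠ 0) {g : Matrix.symplecticGroup (Fin m) F}
    (hn : IsNilpotent (Matrix.toLinAlgEquiv' ((g : Matrix (Fin m ⊕ Fin m) (Fin m ⊕ Fin m) F) - 1)))
    (ht : HasType (Matrix.toLinAlgEquiv' ((g : Matrix (Fin m ⊕ Fin m) (Fin m ⊕ Fin m) F) - 1))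
      (Finset.univ.val.map d))
    (hsum : ∑ k, d k = 2 * m) : Nonempty (Coords g (cay (F := F) d)) := by
  let e : Pos d ≃ Fin m ⊕ Fin m := Fintype.equivOfCardEq (by simp [hsum, two_mul])
  refine exists_coords_of_conj e rfl (IsConj.trans ?_ ((UnipForms.isConj_jordan_iff d e _).2 ⟨hn, ht⟩))
  exact (Matrix.reindexAlgEquiv F F e).toMulEquiv.toMonoidHom.map_isConj (isConj_cay d h2).symm

/-- Forms for the Cayley model are congruent if the discriminants of the even leading forms agree. -/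
theorem exists_congr_forms [Fintype F] (p : ℕ) [Fact p.Prime] [CharP F p] (hp : p ≠ 2) (h2 : (2 : F) ≠ 0)
    {Y Y' : Matrix (Pos d) (Pos d) F} (hY : IsForm d Y) (hY' : IsForm d Y')
    (h : ∀ a, Even a → (IsSquare (leadForm d hd Y a).det ↔ IsSquare (leadForm d hd Y' a).det)) :
    ∃ c, InComm d c ∧ c.det ≠ 0 ∧ cᵀ * Y * c = Y' := by
  refine exists_congr hd p hp hY hY' fun a => ?_
  rcases Nat.even_or_odd a with ha | ha
  · refine Congruence.exists_congr_symm h2 ?_ (hY.det_leadForm hd a) ?_ (hY'.det_leadForm hd a)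
      (Congruence.isSquare_mul_of_iff (hY.det_leadForm hd a) (hY'.det_leadForm hd a) (h a ha))
    · rw [hY.leadForm_transpose hd, ha.neg_one_pow, one_smul]
    · rw [hY'.leadForm_transpose hd, ha.neg_one_pow, one_smul]
  · refine Congruence.exists_congr_alt h2 ?_ (hY.det_leadForm hd a) ?_ (hY'.det_leadForm hd a)
    · rw [hY.leadForm_transpose hd, ha.neg_one_pow, neg_one_smul]
    · rw [hY'.leadForm_transpose hd, ha.neg_one_pow, neg_one_smul]

theorem isSquare_det_congr {a : ℕ} {Y c : Matrix (Pos d) (Pos d) F} (hY : IsForm d Y) (hc : InComm d c)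
    (hdet : c.det ≠ 0) :
    IsSquare (leadForm d hd (cᵀ * Y * c) a).det ↔ IsSquare (leadForm d hd Y a).det := by
  rw [leadForm_congr hd hY hc, det_mul, det_mul, det_transpose]
  set x := (lead d hd c a).det with hxdef
  have hx : x ≠ 0 := (det_ne_zero_iff d hd hc).1 hdet a
  set y := (leadForm d hd Y a).det
  constructor
  · rintro ⟨r, hr⟩
    exact ⟨r / x, by field_simp; linear_combination hr⟩
  · rintro ⟨r, hr⟩
    exact ⟨x * r, by rw [hr]; ring⟩

theorem even_card_blk (hd : ∀ k, 1 ≤ d k) (h2 : (2 : F) ≠ 0) {Y : Matrix (Pos d) (Pos d) F} (hY : IsForm d Y) {a : ℕ} (ha : Odd a) :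
    Even (Fintype.card (Blk d a)) :=
  Congruence.even_card_of_alt h2 (by rw [hY.leadForm_transpose hd, ha.neg_one_pow, neg_one_smul])
    (hY.det_leadForm hd a)

/-- Forms with prescribed discriminants. -/
theorem exists_form_sq [Fintype F] (h2 : (2 : F) ≠ 0) (hodd : ∀ a, Odd a → Even (Fintype.card (Blk d a)))
    (s : ℕ → Bool) :
    ∃ Y, IsForm (F := F) d Y ∧ ∀ a, Even a → Nonempty (Blk d a) →
      (IsSquare (leadForm d hd Y a).det ↔ s a = true) := by
  classical
  obtain ⟨α, hα⟩ := FiniteField.exists_nonsquare (F := F) fun h => h2 (by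
    have := ringChar.of_eq h
    exact CharTwo.two_eq_zero)
  have hα0 : α ≠ 0 := fun h => hα (h ▸ IsSquare.zero)
  have hex : ∀ a, ∃ M : Matrix (Blk d a) (Blk d a) F, M.det ≠ 0 ∧ Mᵀ = (-1 : F) ^ a • M ∧
      (Even a → Nonempty (Blk d a) → (IsSquare M.det ↔ s a = true)) := by
    intro a
    rcases Nat.even_or_odd a with ha | ha
    · by_cases hne : Nonempty (Blk d a)
      · obtain ⟨k₀⟩ := hne
        set c : F := if s a = true then 1 else α with hc
        refine ⟨Matrix.diagonal fun k => if k = k₀ then c else 1, ?_, ?_, fun _ _ => ?_⟩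
        · rw [det_diagonal, Finset.prod_ite_eq' Finset.univ k₀ (fun _ => c), if_pos (Finset.mem_univ _), hc]
          split_ifs
          · exact one_ne_zero
          · exact hα0
        · rw [diagonal_transpose, ha.neg_one_pow, one_smul]
        · rw [det_diagonal, Finset.prod_ite_eq' Finset.univ k₀ (fun _ => c), if_pos (Finset.mem_univ _), hc]
          split_ifs with h
          · exact iff_of_true IsSquare.one h
          · exact iff_of_false hα h
      · haveI := not_nonempty_iff.1 hne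
        exact ⟨1, by rw [det_one]; exact one_ne_zero, Matrix.ext fun i => isEmptyElim i, fun _ h => absurd h hne⟩
    · obtain ⟨c, hc⟩ := hodd a ha
      let e : Blk d a ≃ Fin c ⊕ Fin c := Fintype.equivOfCardEq (by simp [hc])
      refine ⟨(Matrix.J (Fin c) F).submatrix e e, ?_, ?_, fun h => absurd h (Nat.not_even_iff_odd.2 ha)⟩
      · rw [Matrix.det_submatrix_equiv_self]; exact (Matrix.isUnit_det_J _ _).ne_zero
      · rw [transpose_submatrix, Matrix.J_transpose, ha.neg_one_pow, neg_one_smul]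
        rfl
  choose M hM hMs hMsq using hex
  obtain ⟨Y, hY, hYl⟩ := exists_form d hd M hM hMs
  exact ⟨Y, hY, fun a ha hne => by rw [hYl]; exact hMsq a ha hne⟩

end Cayley

/-! ### Types as partitions -/

/-- A nilpotent endomorphism has a type without empty blocks. -/
theorem exists_type {V : Type*} [AddCommGroup V] [Module F V] [FiniteDimensional F V] {N : Module.End F V}
    (hN : IsNilpotent N) {n : ℕ} (hn : Module.finrank F V = n) : ∃ μ : Nat.Partition n, HasType N μ.parts := by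
  obtain ⟨d, k, L, hL⟩ := UnipClasses.exists_shift N hN
  have hsum : n = ∑ i, k i := by
    have h := L.finrank_eq
    rw [hn, Module.finrank_fintype_fun_eq_card, Fintype.card_sigma] at h
    simpa using h
  refine ⟨⟨(Finset.univ.val.map k).filter (0 < ·), fun h => (Multiset.mem_filter.1 h).2, ?_⟩, fun j => ?_⟩
  · have : ∀ m : Multiset ℕ, (m.filter (0 < ·)).sum = m.sum := fun m => by
      induction m using Multiset.induction with
      | empty => simp
      | cons e m ih => rcases e with _ | e <;> simp [ih]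
    rw [this]
    exact hsum.symm
  · have : ∀ m : Multiset ℕ, ((m.filter (0 < ·)).map (· - j)).sum = (m.map (· - j)).sum := fun m => by
      induction m using Multiset.induction with
      | empty => simp
      | cons e m ih => rcases e with _ | e <;> simp [ih]
    rw [UnipClasses.hasType_of_shift k L hL j]
    exact (this _).symm

/-- The block sizes of a multiset. -/
noncomputable def blocks (μ : Multiset ℕ) : Fin μ.toList.length → ℕ := μ.toList.get

theorem map_blocks (μ : Multiset ℕ) : Finset.univ.val.map (blocks μ) = μ := by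
  rw [Fin.univ_val_map, blocks, List.ofFn_get, Multiset.coe_toList]

theorem sum_blocks (μ : Multiset ℕ) : ∑ k, blocks μ k = μ.sum := by
  rw [Finset.sum_eq_multiset_sum, map_blocks]

theorem one_le_blocks {μ : Multiset ℕ} (h : ∀ a ∈ μ, 0 < a) (k : Fin μ.toList.length) : 1 ≤ blocks μ k :=
  h _ (by rw [← Multiset.mem_toList]; exact List.get_mem _ _)

theorem card_blk_blocks (μ : Multiset ℕ) (a : ℕ) : Fintype.card (Blk (blocks μ) a) = μ.count a := by
  conv_rhs => rw [← map_blocks μ]
  rw [UnipForms.count_map_fin, Fintype.card_subtype]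

end Cfsg.Agent.UnipForms.SympUnipotent
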