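/-
Symmetric forms for which a nilpotent block matrix is skew-adjoint (odd `q`): the leading forms decide congruence,
and the discriminant is the product of theirs.
-/
import Cfsg.Agent.Lib.UnipForms.SympUnipotent

set_option autoImplicit false
set_option linter.unusedSectionVars false

open Matrix

namespace Cfsg.Agent.UnipForms.SymLeading

open Cfsg.Agent.UnipCentralizer Cfsg.Agent.UnipCentralizer.Unitary Cfsg.Agent.UnipCentralizer.Leading

variable {F : Type*} [Field F] {t : ℕ} (d : Fin t → ℕ)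

/-- A symmetric form for which the block matrix is skew-adjoint. -/
def IsSymForm (Y : Matrix (Pos d) (Pos d) F) : Prop := Yᵀ = Y ∧ Y.det ≠ 0 ∧ (Nil d)ᵀ * Y = -(Y * Nil d)

variable {d} (hd : ∀ k, 1 ≤ d k)

theorem IsSymForm.inComm {Y : Matrix (Pos d) (Pos d) F} (hY : IsSymForm d Y) : InComm d (toX d Y) :=
  (inComm_toX_iff d Y).2 hY.2.2

theorem IsSymForm.det_leadForm {Y : Matrix (Pos d) (Pos d) F} (hY : IsSymForm d Y) (a : ℕ) :
    (leadForm d hd Y a).det ≠ 0 := by
  rw [← lead_toX]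
  exact (det_ne_zero_iff d hd hY.inComm).1 ((det_toX_ne_zero_iff d Y).2 hY.2.1) a

theorem IsSymForm.leadForm_transpose {Y : Matrix (Pos d) (Pos d) F} (hY : IsSymForm d Y) (a : ℕ) :
    (leadForm d hd Y a)ᵀ = (-1 : F) ^ (a + 1) • leadForm d hd Y a := by
  ext l k
  show Y (bot d hd k.1) (top d hd l.1) = (-1 : F) ^ (a + 1) * Y (bot d hd l.1) (top d hd k.1)
  have ha : 1 ≤ a := l.2 ▸ hd l.1
  have h1 : Y (bot d hd k.1) (top d hd l.1) = Y (top d hd l.1) (bot d hd k.1) := by
    have := congrFun (congrFun hY.1 (top d hd l.1)) (bot d hd k.1)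
    simpa using this
  have h2 := bot_apply d hd hY.inComm (m := l.1) (l := k.1)
  rw [if_pos (l.2.trans k.2.symm)] at h2
  simp only [toX, Matrix.of_apply, rev_bot, rev_top] at h2
  rw [show sgn (F := F) d (bot d hd l.1) = 1 by simp [sgn, bot], one_mul,
    show sgn (F := F) d (top d hd l.1) = (-1) ^ (a - 1) by simp [sgn, top, l.2]] at h2
  rw [h1, ← h2]
  obtain ⟨b, rfl⟩ : ∃ b, a = b + 1 := ⟨a - 1, by omega⟩
  rw [Nat.add_sub_cancel, ← mul_assoc, ← pow_add, show b + 1 + 1 + b = 2 * (b + 1) by ring, pow_mul, neg_one_sq,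
    one_pow, one_mul]

theorem IsSymForm.congr {Y c : Matrix (Pos d) (Pos d) F} (hY : IsSymForm d Y) (hc : InComm d c) (hdet : c.det ≠ 0) :
    IsSymForm d (cᵀ * Y * c) := by
  refine ⟨by rw [transpose_mul, transpose_mul, transpose_transpose, hY.1, mul_assoc], ?_, ?_⟩
  · rw [det_mul, det_mul, det_transpose]
    exact mul_ne_zero (mul_ne_zero hdet hY.2.1) hdet
  · have hcn := (inComm_iff d c).1 hc
    calc (Nil d)ᵀ * (cᵀ * Y * c) = (c * Nil d)ᵀ * Y * c := by rw [transpose_mul]; simp only [mul_assoc]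
      _ = cᵀ * ((Nil d)ᵀ * Y) * c := by rw [hcn, transpose_mul]; simp only [mul_assoc]
      _ = -(cᵀ * Y * c * Nil d) := by
        rw [hY.2.2, mul_neg, neg_mul]
        simp only [mul_assoc, hcn]

/-- The leading forms transform by congruence. -/
theorem leadForm_congr {Y c : Matrix (Pos d) (Pos d) F} (hY : IsSymForm d Y) (hc : InComm d c) (a : ℕ) :
    leadForm d hd (cᵀ * Y * c) a = (lead d hd c a)ᵀ * leadForm d hd Y a * lead d hd c a := by
  rw [← lead_toX d hd Y, mul_assoc ((lead d hd c a)ᵀ), ← lead_mul d hd hY.inComm hc, ← toX_mul, mul_assoc]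
  have hXc : InComm d (toX d (Y * c)) := by rw [toX_mul]; exact hY.inComm.mul hc
  have hsupp : ∀ p (k : Fin t), (p.2 : ℕ) ≠ 0 → (Y * c) p (top d hd k) = 0 := by
    intro p k hp
    have h := top_eq_zero d hd hXc (rev d p) k (by
      rw [rev_snd, rev_fst]; have := p.2.isLt; omega)
    simp only [toX, Matrix.of_apply, rev_rev] at h
    exact (mul_eq_zero.1 h).resolve_left (left_ne_zero_of_mul_eq_one (sgn_mul_self d p))
  ext l k
  show (cᵀ * (Y * c)) (bot d hd l.1) (top d hd k.1) =
    ∑ m : Blk d a, c (top d hd m.1) (top d hd l.1) * toX d (Y * c) (top d hd m.1) (top d hd k.1)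
  have hXY : ∀ m, toX d (Y * c) (top d hd m) (top d hd k.1) = (Y * c) (bot d hd m) (top d hd k.1) := fun m => by
    simp only [toX, Matrix.of_apply, rev_top]
    simp [sgn, bot]
  rw [Matrix.mul_apply, Fintype.sum_sigma]
  trans ∑ m, c (bot d hd m) (bot d hd l.1) * (Y * c) (bot d hd m) (top d hd k.1)
  · refine Finset.sum_congr rfl fun m _ => ?_
    rw [Finset.sum_eq_single (⟨0, hd m⟩ : Fin (d m)) (fun i _ hi => by
      rw [hsupp ⟨m, i⟩ _ (fun e => hi (Fin.ext e)), mul_zero]) (by simp)]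
    rfl
  rw [← sum_blk d (a := a) (fun m => c (bot d hd m) (bot d hd l.1) * (Y * c) (bot d hd m) (top d hd k.1))]
  · refine Finset.sum_congr rfl fun m _ => ?_
    rw [hXY, bot_apply d hd hc, if_pos (m.2.trans l.2.symm)]
  · intro m hm
    rcases Nat.lt_or_gt_of_ne hm with h | h
    · rw [← hXY, top_top_eq_zero d hd hXc (show d m < d k.1 by rw [k.2]; exact h), mul_zero]
    · rw [bot_apply d hd hc, if_neg (by rw [l.2]; omega), if_neg (by rw [l.2]; omega), zero_mul]

include hd in
theorem exists_congr_of_leadForm_eq [Fintype F] (p : ℕ) [Fact p.Prime] [CharP F p] (hp : p ≠ 2)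
    {Y Y' : Matrix (Pos d) (Pos d) F} (hY : IsSymForm d Y) (hY' : IsSymForm d Y')
    (hl : ∀ a, leadForm d hd Y a = leadForm d hd Y' a) :
    ∃ c, InComm d c ∧ c.det ≠ 0 ∧ cᵀ * Y * c = Y' := by
  have hYu : IsUnit Y.det := isUnit_iff_ne_zero.2 hY.2.1
  set R := Y⁻¹ * Y' with hR
  have hYR : Y * R = Y' := by rw [hR, ← mul_assoc, Matrix.mul_nonsing_inv _ hYu, one_mul]
  have hXR : toX d Y * R = toX d Y' := by rw [← toX_mul, hYR]
  have hXdet := (det_toX_ne_zero_iff d Y).2 hY.2.1
  have hRc : InComm d R := by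
    have := (hY.inComm.inv hXdet).mul hY'.inComm
    rwa [← hXR, ← mul_assoc, Matrix.nonsing_inv_mul _ (isUnit_iff_ne_zero.2 hXdet), one_mul] at this
  have hlR : ∀ a, lead d hd R a = 1 := fun a => by
    have h := lead_mul d hd hY.inComm hRc a
    rw [hXR, lead_toX, lead_toX, ← hl a] at h
    have hu : IsUnit (leadForm d hd Y a).det := isUnit_iff_ne_zero.2 (hY.det_leadForm hd a)
    have := congrArg ((leadForm d hd Y a)⁻¹ * ·) h
    simp only [← mul_assoc, Matrix.nonsing_inv_mul _ hu, one_mul] at this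
    exact this.symm
  obtain ⟨k, hk, hidem⟩ := exists_idempotent_pow (R - 1)
  set E := (R - 1) ^ k with hE
  have hEc : InComm d E := (hRc.sub (inComm_one d)).pow k
  have hE0 : E = 0 := by
    have h1 : (1 - E).det ≠ 0 := by
      rw [det_ne_zero_iff d hd ((inComm_one d).sub hEc)]
      intro a
      rw [lead_sub, lead_one, hE, lead_pow d hd (hRc.sub (inComm_one d)), lead_sub, lead_one, hlR, sub_self,
        zero_pow (by omega), sub_zero, det_one]
      exact one_ne_zero
    have h2 : (1 - E) * E = 0 := by rw [sub_mul, one_mul, hidem, sub_self]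
    exact (Matrix.isUnit_iff_isUnit_det _ |>.2 (isUnit_iff_ne_zero.2 h1)).mul_right_eq_zero.1 h2
  have hpk : R ^ (p ^ k) = 1 := by
    have hpow : (R - 1) ^ (p ^ k) = R ^ (p ^ k) - 1 := by
      have h := congrArg (Polynomial.aeval R) (sub_pow_char_pow (Polynomial.X : Polynomial F) 1 (n := k) (p := p))
      simpa using h
    have h0 : (R - 1) ^ (p ^ k) = 0 :=
      pow_eq_zero_of_le (Nat.lt_pow_self (Fact.out : p.Prime).one_lt).le hE0
    rw [h0] at hpow
    exact (sub_eq_zero.1 hpow.symm)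
  obtain ⟨h, hh⟩ : Odd (p ^ k) := ((Fact.out : p.Prime).odd_of_ne_two hp).pow
  set S := R ^ (h + 1) with hS
  have hSS : S * S = R := by
    rw [hS, ← pow_add, show h + 1 + (h + 1) = p ^ k + 1 by omega, pow_succ, hpk, one_mul]
  have hRT : Rᵀ * Y = Y * R := by
    rw [hYR, hR, transpose_mul, hY'.1, mul_assoc, transpose_nonsing_inv, hY.1, Matrix.nonsing_inv_mul _ hYu, mul_one]
  have hST : ∀ j : ℕ, (R ^ j)ᵀ * Y = Y * R ^ j := by
    intro j
    induction j with
    | zero => simp
    | succ j ih =>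
      calc (R ^ (j + 1))ᵀ * Y = Rᵀ * ((R ^ j)ᵀ * Y) := by rw [pow_succ, transpose_mul, mul_assoc]
        _ = Y * R * R ^ j := by rw [ih, ← mul_assoc, hRT]
        _ = Y * R ^ (j + 1) := by rw [pow_succ', mul_assoc]
  refine ⟨S, hRc.pow _, ?_, ?_⟩
  · intro h0
    have h1 : R.det = 0 := by rw [← hSS, det_mul, h0, mul_zero]
    have h2 := congrArg Matrix.det hYR
    rw [det_mul, h1, mul_zero] at h2
    exact hY'.2.1 h2.symm
  · rw [hS, hST, ← hS, mul_assoc, hSS, hYR]

/-- Forms are congruent under the commutant if the discriminants of the odd leading forms agree. -/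
theorem exists_congr_forms [Fintype F] (p : ℕ) [Fact p.Prime] [CharP F p] (hp : p ≠ 2) (h2 : (2 : F) ≠ 0)
    {Y Y' : Matrix (Pos d) (Pos d) F} (hY : IsSymForm d Y) (hY' : IsSymForm d Y')
    (h : ∀ a, Odd a → (IsSquare (leadForm d hd Y a).det ↔ IsSquare (leadForm d hd Y' a).det)) :
    ∃ c, InComm d c ∧ c.det ≠ 0 ∧ cᵀ * Y * c = Y' := by
  have hl : ∀ a, ∃ P : Matrix (Blk d a) (Blk d a) F,
      P.det ≠ 0 ∧ Pᵀ * leadForm d hd Y a * P = leadForm d hd Y' a := by
    intro a
    rcases Nat.even_or_odd a with ha | ha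
    · refine Congruence.exists_congr_alt h2 ?_ (hY.det_leadForm hd a) ?_ (hY'.det_leadForm hd a)
      · rw [hY.leadForm_transpose hd, ha.add_one.neg_one_pow, neg_one_smul]
      · rw [hY'.leadForm_transpose hd, ha.add_one.neg_one_pow, neg_one_smul]
    · refine Congruence.exists_congr_symm h2 ?_ (hY.det_leadForm hd a) ?_ (hY'.det_leadForm hd a)
        (Congruence.isSquare_mul_of_iff (hY.det_leadForm hd a) (hY'.det_leadForm hd a) (h a ha))
      · rw [hY.leadForm_transpose hd, ha.add_one.neg_one_pow, one_smul]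
      · rw [hY'.leadForm_transpose hd, ha.add_one.neg_one_pow, one_smul]
  choose P hP hPc using hl
  set c₀ := constMat d (glue d P) with hc₀
  have hc : InComm d c₀ := inComm_constMat d _
  have hdet : c₀.det ≠ 0 := by
    rw [det_ne_zero_iff d hd hc]
    exact fun a => by rw [hc₀, lead_constMat]; exact hP a
  obtain ⟨c, h1, h3, h4⟩ := exists_congr_of_leadForm_eq hd p hp (hY.congr hc hdet) hY' fun a => by
    rw [leadForm_congr hd hY hc, hc₀, lead_constMat, hPc]
  refine ⟨c₀ * c, hc.mul h1, by rw [det_mul]; exact mul_ne_zero hdet h3, ?_⟩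
  rw [← h4, transpose_mul]
  simp only [mul_assoc]

theorem even_card_blk (h2 : (2 : F) ≠ 0) {Y : Matrix (Pos d) (Pos d) F} (hY : IsSymForm d Y)
    (hd : ∀ k, 1 ≤ d k) {a : ℕ} (ha : Even a) : Even (Fintype.card (Blk d a)) :=
  Congruence.even_card_of_alt h2 (by rw [hY.leadForm_transpose hd, ha.add_one.neg_one_pow, neg_one_smul])
    (hY.det_leadForm hd a)

/-! ### Determinants -/

/-- The determinant of a member of the commutant. -/
theorem det_inComm {M : Matrix (Pos d) (Pos d) F} (hM : InComm d M) :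
    M.det = ∏ a ∈ Finset.univ.image d, (lead d hd M a).det ^ a := by
  classical
  set B := Finset.univ.sup d with hB
  have hle : ∀ k, d k ≤ B := fun k => Finset.le_sup (Finset.mem_univ k)
  let K : Pos d → ℕ := fun p => (p.2 : ℕ) * (B + 1) + (B - d p.1)
  have hKlt : ∀ i a : ℕ, i * (B + 1) + (B - a) < (i + 1) * (B + 1) := fun i a => by rw [add_mul, one_mul]; omega
  have hfst : ∀ i i' a a' : ℕ, i < i' → i * (B + 1) + (B - a) < i' * (B + 1) + (B - a') := fun i i' a a' h =>
    lt_of_lt_of_le (hKlt i a) (le_trans (Nat.mul_le_mul_right _ h) (Nat.le_add_right _ _))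
  have htri : M.BlockTriangular (OrderDual.toDual ∘ K) := by
    intro p q hpq
    have hlt : K p < K q := hpq
    rw [eq_mat d hd hM]
    simp only [mat, Matrix.of_apply]
    rw [dif_neg]
    rintro ⟨h1, h2⟩
    rcases Nat.lt_or_ge (q.2 : ℕ) (p.2 : ℕ) with h | h
    · have := hfst _ _ (d q.1) (d p.1) h
      simp only [K] at hlt
      omega
    · have e : (p.2 : ℕ) = (q.2 : ℕ) := by omega
      simp only [K, e] at hlt
      have := hle p.1
      have := hle q.1
      omega
  let kk : (Σ _ : ℕ, ℕ) → ℕᵒᵈ := fun x => OrderDual.toDual (x.2 * (B + 1) + (B - x.1))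
  have himg : Finset.univ.image (OrderDual.toDual ∘ K) =
      ((Finset.univ.image d).sigma fun a => Finset.range a).image kk := by
    ext x
    simp only [Finset.mem_image, Finset.mem_univ, true_and, Finset.mem_sigma, Finset.mem_range]
    constructor
    · rintro ⟨p, rfl⟩
      exact ⟨⟨d p.1, (p.2 : ℕ)⟩, ⟨⟨p.1, rfl⟩, p.2.isLt⟩, rfl⟩
    · rintro ⟨⟨a, i⟩, ⟨⟨k, hk⟩, hi⟩, rfl⟩
      obtain rfl : d k = a := hk
      exact ⟨⟨k, ⟨i, hi⟩⟩, rfl⟩
  have hinj : Set.InjOn kk (((Finset.univ.image d).sigma fun a => Finset.range a : Finset _) : Set _) := by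
    rintro ⟨a, i⟩ hx ⟨a', i'⟩ hx' h
    simp only [Finset.coe_sigma, Set.mem_sigma_iff, Finset.mem_coe, Finset.mem_image, Finset.mem_univ, true_and,
      Finset.mem_range] at hx hx'
    obtain ⟨⟨k, hk⟩, hi⟩ := hx
    obtain ⟨⟨k', hk'⟩, hi'⟩ := hx'
    have h' : i * (B + 1) + (B - a) = i' * (B + 1) + (B - a') := OrderDual.toDual.injective h
    have := hle k
    have := hle k'
    rcases Nat.lt_trichotomy i i' with e | e | e
    · have := hfst _ _ a a' e; omega
    · subst e
      obtain rfl : a = a' := by omega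
      rfl
    · have := hfst _ _ a' a e; omega
  rw [htri.det, himg, Finset.prod_image hinj, Finset.prod_sigma]
  refine Finset.prod_congr rfl fun a ha => ?_
  rw [Finset.prod_congr rfl (g := fun _ => (lead d hd M a).det) fun i hi => ?_, Finset.prod_const, Finset.card_range]
  obtain ⟨k₀, -, rfl⟩ := Finset.mem_image.1 ha
  rw [Finset.mem_range] at hi
  let e : Blk d (d k₀) ≃ {p : Pos d // (OrderDual.toDual ∘ K) p = kk ⟨d k₀, i⟩} :=
    { toFun := fun l => ⟨⟨l.1, ⟨i, l.2.symm ▸ hi⟩⟩, by simp only [K, kk, Function.comp_apply, l.2]⟩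
      invFun := fun p => ⟨p.1.1, by
        have h := OrderDual.toDual.injective p.2
        simp only [K] at h
        have := hle p.1.1
        have := hle k₀
        rcases Nat.lt_trichotomy (p.1.2 : ℕ) i with e | e | e
        · have := hfst _ _ (d p.1.1) (d k₀) e; omega
        · rw [e] at h; omega
        · have := hfst _ _ (d k₀) (d p.1.1) e; omega⟩
      left_inv := fun l => rfl
      right_inv := fun p => by
        have h := OrderDual.toDual.injective p.2
        simp only [K] at h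
        refine Subtype.ext ((pos_ext_iff d).2 ⟨rfl, ?_⟩)
        rcases Nat.lt_trichotomy (p.1.2 : ℕ) i with e | e | e
        · have := hfst _ _ (d p.1.1) (d k₀) e; omega
        · exact e.symm
        · have := hfst _ _ (d k₀) (d p.1.1) e; omega }
  rw [← Matrix.det_submatrix_equiv_self e]
  congr 1
  ext l m
  show M ⟨l.1, ⟨i, _⟩⟩ ⟨m.1, ⟨i, _⟩⟩ = M (top d hd l.1) (top d hd m.1)
  rw [eq_mat d hd hM]
  have hl := l.2
  have hm := m.2
  simp only [mat, Matrix.of_apply, top]
  rw [dif_pos (show i ≤ i ∧ d l.1 ≤ i - i + d m.1 by omega),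
    dif_pos (show d m.1 - 1 ≤ d l.1 - 1 ∧ d l.1 ≤ d l.1 - 1 - (d m.1 - 1) + d m.1 by omega)]
  congr 1
  exact (pos_ext_iff d).2 ⟨rfl, by dsimp only; omega⟩

/-- The discriminant is the product of the leading ones, up to a factor depending only on the blocks. -/
theorem det_form : ∃ c : F, c ≠ 0 ∧ ∀ Y : Matrix (Pos d) (Pos d) F, IsSymForm d Y →
    c * Y.det = ∏ a ∈ Finset.univ.image d, (leadForm d hd Y a).det ^ a := by
  classical
  refine ⟨(∏ p, sgn (F := F) d (rev d p)) * ((Equiv.Perm.sign (rev d) : ℤ) : F), mul_ne_zero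
    (Finset.prod_ne_zero_iff.2 fun p _ => left_ne_zero_of_mul_eq_one (sgn_mul_self d _))
    (IsUnit.ne_zero ((Units.isUnit _).map (Int.castRingHom F))), fun Y hY => ?_⟩
  have h : toX d Y = Matrix.diagonal (fun p => sgn d (rev d p)) * Y.submatrix (rev d) id := by
    ext p r
    rw [Matrix.diagonal_mul]
    rfl
  simp only [← lead_toX]
  rw [← det_inComm hd hY.inComm, h, det_mul, det_diagonal, Matrix.det_permute, mul_assoc]

/-- Changing exactly one odd discriminant changes the discriminant. -/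
theorem not_isSquare_det [Fintype F] {Y Y' : Matrix (Pos d) (Pos d) F} (hY : IsSymForm d Y)
    (hY' : IsSymForm d Y') {a₀ : ℕ} (ha₀ : Odd a₀) (hne : Nonempty (Blk d a₀))
    (h0 : ¬(IsSquare (leadForm d hd Y a₀).det ↔ IsSquare (leadForm d hd Y' a₀).det))
    (h : ∀ a, Odd a → a ≠ a₀ → (IsSquare (leadForm d hd Y a).det ↔ IsSquare (leadForm d hd Y' a).det)) :
    ¬IsSquare (Y.det * Y'.det) := by
  classical
  obtain ⟨c, hc, hdet⟩ := det_form (F := F) hd
  set f : ℕ → F := fun a => (leadForm d hd Y a).det * (leadForm d hd Y' a).det with hf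
  have hfne : ∀ a, f a ≠ 0 := fun a => mul_ne_zero (hY.det_leadForm hd a) (hY'.det_leadForm hd a)
  have key : c ^ 2 * (Y.det * Y'.det) = ∏ a ∈ Finset.univ.image d, f a ^ a := by
    rw [show c ^ 2 * (Y.det * Y'.det) = (c * Y.det) * (c * Y'.det) by ring, hdet Y hY, hdet Y' hY',
      ← Finset.prod_mul_distrib]
    exact Finset.prod_congr rfl fun a _ => by rw [hf, mul_pow]
  have ha₀mem : a₀ ∈ Finset.univ.image d := by
    obtain ⟨k⟩ := hne
    exact Finset.mem_image.2 ⟨k.1, Finset.mem_univ _, k.2⟩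
  have hrest : IsSquare (∏ a ∈ (Finset.univ.image d).erase a₀, f a ^ a) := by
    refine Finset.isSquare_prod _ fun a ha => ?_
    rcases Nat.even_or_odd a with he | ho
    · exact he.isSquare_pow _
    · exact (Congruence.isSquare_mul_of_iff (hY.det_leadForm hd a) (hY'.det_leadForm hd a)
        (h a ho (Finset.ne_of_mem_erase ha))).pow _
  intro hsq
  have h1 : IsSquare (∏ a ∈ Finset.univ.image d, f a ^ a) := key ▸ (IsSquare.sq c).mul hsq
  rw [← Finset.mul_prod_erase _ _ ha₀mem] at h1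
  have hprod0 : ∏ a ∈ (Finset.univ.image d).erase a₀, f a ^ a ≠ 0 :=
    Finset.prod_ne_zero_iff.2 fun a _ => pow_ne_zero _ (hfne a)
  have h3 : IsSquare (f a₀ ^ a₀) := by
    have := h1.mul hrest.inv
    rwa [mul_assoc, mul_inv_cancel₀ hprod0, mul_one] at this
  obtain ⟨b, hb⟩ := ha₀
  have h4 : IsSquare (f a₀) := by
    have h5 : IsSquare ((f a₀ ^ (2 * b))⁻¹) := ((even_two_mul b).isSquare_pow _).inv
    have := h3.mul h5
    rwa [show f a₀ ^ a₀ * (f a₀ ^ (2 * b))⁻¹ = f a₀ by
      rw [show f a₀ ^ a₀ = f a₀ ^ (2 * b) * f a₀ by rw [hb, pow_succ]]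
      field_simp [hfne a₀]] at this
  apply h0
  have hx := hY.det_leadForm hd a₀
  have hy := hY'.det_leadForm hd a₀
  constructor
  · intro hs
    have := h4.mul hs.inv
    rwa [show f a₀ * (leadForm d hd Y a₀).det⁻¹ = (leadForm d hd Y' a₀).det by rw [hf]; field_simp] at this
  · intro hs
    have := h4.mul hs.inv
    rwa [show f a₀ * (leadForm d hd Y' a₀).det⁻¹ = (leadForm d hd Y a₀).det by rw [hf]; field_simp] at this

end Cfsg.Agent.UnipForms.SymLeading
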