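/-
Decomposition of symplectic elements by the eigenvalues `1` and `-1`, and the forms belonging to it (odd `q`).
-/
import Cfsg.Agent.Lib.UnipForms.SympUnipotent
import Cfsg.Agent.Lib.Semisimple.UnitaryConj

set_option autoImplicit false
set_option linter.unusedSectionVars false

open Matrix

namespace Cfsg.Agent.UnipForms.SympDecomp

open Cfsg.Agent.UnipCentralizer Cfsg.Agent.UnipCentralizer.Leading LinRep.JordanType SympUnipotent

variable {F : Type*} [Field F]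

/-! ### Splitting off the nilpotent part -/

theorem exists_split {V : Type*} [AddCommGroup V] [Module F V] [FiniteDimensional F V] (A : Module.End F V) :
    ∃ (μ : Multiset ℕ) (c : ℕ) (B : Matrix (Fin c) (Fin c) F)
      (e : V ≃ₗ[F] (Pos (blocks μ) → F) × (Fin c → F)), (∀ a ∈ μ, 0 < a) ∧ B.det ≠ 0 ∧
      ∀ v, e (A v) = ((jordanTypeMatrix (blocks μ) F - 1) *ᵥ (e v).1, B *ᵥ (e v).2) := by
  classical
  obtain ⟨N, hN⟩ := Filter.eventually_atTop.1 A.eventually_isCompl_ker_pow_range_pow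
  have h : IsCompl (LinearMap.ker (A ^ (N + 1))) (LinearMap.range (A ^ (N + 1))) := hN (N + 1) (Nat.le_succ N)
  set K := LinearMap.ker (A ^ (N + 1)) with hK
  set R := LinearMap.range (A ^ (N + 1)) with hR
  have hKm : ∀ v ∈ K, A v ∈ K := fun v hv => by
    rw [hK, LinearMap.mem_ker] at hv ⊢
    rw [← Module.End.mul_apply, ← pow_succ, pow_succ', Module.End.mul_apply, hv, map_zero]
  have hRm : ∀ v ∈ R, A v ∈ R := fun v hv => by
    rw [hR] at hv ⊢
    obtain ⟨w, rfl⟩ := LinearMap.mem_range.1 hv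
    exact ⟨A w, by rw [← Module.End.mul_apply, ← pow_succ, pow_succ', Module.End.mul_apply]⟩
  have hnil : IsNilpotent (A.restrict hKm) := ⟨N + 1, LinearMap.ext fun v => by
    rw [Module.End.pow_restrict]
    exact Subtype.ext (LinearMap.mem_ker.1 v.2)⟩
  obtain ⟨μ, hμ⟩ := SympUnipotent.exists_type hnil (rfl : Module.finrank F K = _)
  obtain ⟨L, hL⟩ := UnipClasses.similar_of_rankDim hnil (UnipForms.isNilpotent_shiftFun (blocks μ.parts))
    fun j => (hμ j).trans (by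
      have := shiftFun_hasType (F := F) (blocks μ.parts) j
      rw [map_blocks] at this
      exact this.symm)
  let b := Module.finBasis F R
  set B := LinearMap.toMatrix b b (A.restrict hRm) with hB
  refine ⟨μ.parts, Module.finrank F R, B,
    (Submodule.prodEquivOfIsCompl K R h).symm.trans (L.prodCongr b.equivFun), fun a ha => μ.parts_pos ha, ?_, fun v => ?_⟩
  · rw [hB, LinearMap.det_toMatrix]
    refine (LinearMap.isUnit_iff_isUnit_det _).1 ((LinearMap.isUnit_iff_ker_eq_bot _).2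
      (LinearMap.ker_eq_bot'.2 fun v hv => ?_)) |>.ne_zero
    have hv' : A v.1 = 0 := congrArg Subtype.val hv
    have hk : v.1 ∈ K := by
      rw [hK, LinearMap.mem_ker, pow_succ, Module.End.mul_apply, hv', map_zero]
    exact Subtype.ext (Submodule.disjoint_def.1 h.disjoint v.1 hk v.2)
  · obtain ⟨⟨x, y⟩, rfl⟩ := (Submodule.prodEquivOfIsCompl K R h).surjective v
    have hA : A (Submodule.prodEquivOfIsCompl K R h (x, y)) =
        Submodule.prodEquivOfIsCompl K R h (A.restrict hKm x, A.restrict hRm y) := by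
      rw [Submodule.coe_prodEquivOfIsCompl', Submodule.coe_prodEquivOfIsCompl', map_add]
      rfl
    rw [hA]
    simp only [LinearEquiv.trans_apply, LinearEquiv.symm_apply_apply, LinearEquiv.prodCongr_apply]
    refine Prod.ext ?_ ?_
    · show L (A.restrict hKm x) = _
      rw [hL, UnipForms.jordanTypeMatrix_sub_one_mulVec]
    · show b.equivFun (A.restrict hRm y) = B *ᵥ b.equivFun y
      rw [hB]
      exact (LinearMap.toMatrix_mulVec_repr b b _ y).symm

/-! ### Three blocks -/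

section Blocks

variable {α β γ : Type*} [Fintype α] [DecidableEq α] [Fintype β] [DecidableEq β] [Fintype γ] [DecidableEq γ]

/-- A block diagonal matrix with three blocks. -/
def big (A : Matrix α α F) (B : Matrix β β F) (C : Matrix γ γ F) : Matrix ((α ⊕ β) ⊕ γ) ((α ⊕ β) ⊕ γ) F :=
  fromBlocks (fromBlocks A 0 0 B) 0 0 C

theorem big_mul (A A' : Matrix α α F) (B B' : Matrix β β F) (C C' : Matrix γ γ F) :
    big A B C * big A' B' C' = big (A * A') (B * B') (C * C') := by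
  simp [big, fromBlocks_multiply]

theorem big_transpose (A : Matrix α α F) (B : Matrix β β F) (C : Matrix γ γ F) :
    (big A B C)ᵀ = big Aᵀ Bᵀ Cᵀ := by
  simp [big, fromBlocks_transpose]

theorem big_one : big (1 : Matrix α α F) (1 : Matrix β β F) (1 : Matrix γ γ F) = 1 := by
  simp [big, fromBlocks_one]

theorem big_det (A : Matrix α α F) (B : Matrix β β F) (C : Matrix γ γ F) :
    (big A B C).det = A.det * B.det * C.det := by
  simp [big]

theorem eq_zero_of_invariant {A₁ : Matrix α α F} {A₂ : Matrix β β F} {M : Matrix α β F}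
    (h1 : IsNilpotent (A₁ - 1)) (h2 : IsUnit (A₂ - 1).det) (h : A₁ᵀ * M * A₂ = M) : M = 0 := by
  obtain ⟨k, hk⟩ := h1
  have hA : IsUnit A₁ := by
    have := IsNilpotent.isUnit_add_one (⟨k, hk⟩ : IsNilpotent (A₁ - 1))
    rwa [sub_add_cancel] at this
  have hAd : IsUnit A₁ᵀ.det := by rw [det_transpose]; exact (Matrix.isUnit_iff_isUnit_det _).1 hA
  set P := A₁ᵀ⁻¹ - 1 with hP
  have hMP : M * (A₂ - 1) = P * M := by
    have e : M * A₂ = A₁ᵀ⁻¹ * M := by
      calc M * A₂ = A₁ᵀ⁻¹ * A₁ᵀ * (M * A₂) := by rw [Matrix.nonsing_inv_mul _ hAd, Matrix.one_mul]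
        _ = A₁ᵀ⁻¹ * (A₁ᵀ * M * A₂) := by simp only [Matrix.mul_assoc]
        _ = _ := by rw [h]
    rw [hP, Matrix.mul_sub, Matrix.sub_mul, e, Matrix.mul_one, Matrix.one_mul]
  have hPk : P ^ k = 0 := by
    have hT : (A₁ᵀ - 1) ^ k = 0 := by
      rw [show A₁ᵀ - 1 = (A₁ - 1)ᵀ by rw [transpose_sub, transpose_one], ← transpose_pow, hk, transpose_zero]
    have hc : Commute (A₁ᵀ⁻¹) (A₁ᵀ - 1) := by
      show _ * _ = _ * _
      rw [Matrix.mul_sub, Matrix.sub_mul, Matrix.nonsing_inv_mul _ hAd, Matrix.mul_nonsing_inv _ hAd,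
        Matrix.mul_one, Matrix.one_mul]
    have hP' : P = -(A₁ᵀ⁻¹ * (A₁ᵀ - 1)) := by
      rw [hP, Matrix.mul_sub, Matrix.nonsing_inv_mul _ hAd, Matrix.mul_one, neg_sub]
    rw [hP', neg_pow, hc.mul_pow, hT, Matrix.mul_zero, Matrix.mul_zero]
  have hit : ∀ j : ℕ, M * (A₂ - 1) ^ j = P ^ j * M := by
    intro j
    induction j with
    | zero => simp
    | succ j ih =>
      rw [pow_succ, ← Matrix.mul_assoc, ih, Matrix.mul_assoc, hMP, ← Matrix.mul_assoc, ← pow_succ]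
  have h0 : M * (A₂ - 1) ^ k = 0 := by rw [hit, hPk, Matrix.zero_mul]
  have hu : IsUnit ((A₂ - 1) ^ k).det := by rw [det_pow]; exact h2.pow k
  have := congrArg (fun X => X * ((A₂ - 1) ^ k)⁻¹) h0
  simpa [Matrix.mul_assoc, Matrix.mul_nonsing_inv _ hu] using this

end Blocks

/-- The standard matrix of a decomposition. -/
noncomputable def std {t s c : ℕ} (d : Fin t → ℕ) (d' : Fin s → ℕ) (G : Matrix (Fin c) (Fin c) F) :
    Matrix ((Pos d ⊕ Pos d') ⊕ Fin c) ((Pos d ⊕ Pos d') ⊕ Fin c) F :=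
  big (cay d) (-cay d') G

variable {m : ℕ} {κ : Type*} [Fintype κ] [DecidableEq κ]

/-- Change of coordinates. -/
def Coords.conj' {g : Matrix.symplecticGroup (Fin m) F} {G G' : Matrix κ κ F} (C : Coords g G) (S : (Matrix κ κ F)ˣ)
    (hS : (S : Matrix κ κ F) * G' = G * S) : Coords g G' where
  T := C.T * (S : Matrix κ κ F)
  T' := (↑S⁻¹ : Matrix κ κ F) * C.T'
  hTT' := by
    rw [Matrix.mul_assoc, ← Matrix.mul_assoc (S : Matrix κ κ F), Units.mul_inv, Matrix.one_mul, C.hTT']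
  hT'T := by
    rw [Matrix.mul_assoc, ← Matrix.mul_assoc C.T', C.hT'T, Matrix.one_mul, Units.inv_mul]
  hG := by rw [← Matrix.mul_assoc, C.hG, Matrix.mul_assoc, ← hS, ← Matrix.mul_assoc]

theorem exists_conj_cay (h2 : (2 : F) ≠ 0) {t : ℕ} (d : Fin t → ℕ) :
    ∃ S : (Matrix (Pos d) (Pos d) F)ˣ,
      (S : Matrix (Pos d) (Pos d) F) * cay d = jordanTypeMatrix d F * (S : Matrix (Pos d) (Pos d) F) := by
  obtain ⟨c, hc⟩ := (isConj_cay d h2 (F := F)).symm
  exact ⟨c, hc⟩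

/-- Decomposition of a symplectic element. -/
theorem exists_decomp (h2 : (2 : F) ≠ 0) (g : Matrix.symplecticGroup (Fin m) F) :
    ∃ (μ ν : Multiset ℕ) (c : ℕ) (G : Matrix (Fin c) (Fin c) F), (∀ a ∈ μ, 0 < a) ∧ (∀ a ∈ ν, 0 < a) ∧
      (G - 1).det ≠ 0 ∧ (G + 1).det ≠ 0 ∧ Nonempty (Coords g (std (blocks μ) (blocks ν) G)) := by
  classical
  set A : Matrix (Fin m ⊕ Fin m) (Fin m ⊕ Fin m) F := (g : Matrix (Fin m ⊕ Fin m) (Fin m ⊕ Fin m) F)
  obtain ⟨μ, c₁, B₁, e₁, hμ, hB₁, he₁⟩ := exists_split (Matrix.toLinAlgEquiv' (A - 1))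
  obtain ⟨ν, c₂, B₂, e₂, hν, hB₂, he₂⟩ := exists_split (Matrix.toLinAlgEquiv' (-(B₁ + 2)))
  set G : Matrix (Fin c₂) (Fin c₂) F := -(B₂ + 1) with hG
  have hGm : (G - 1).det ≠ 0 := by
    intro h0
    obtain ⟨w, hw, hw0⟩ := Matrix.exists_mulVec_eq_zero_iff.2 h0
    have hw2 : B₂ *ᵥ w = -(2 : F) • w := by
      rw [hG, Matrix.sub_mulVec, Matrix.neg_mulVec, Matrix.add_mulVec, Matrix.one_mulVec] at hw0
      rw [neg_smul, two_smul]
      rw [sub_eq_zero] at hw0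
      calc B₂ *ᵥ w = -(-(B₂ *ᵥ w + w)) - w := by abel
        _ = _ := by rw [hw0]; abel
    obtain ⟨v, hv⟩ := e₂.surjective (0, w)
    have h1 := he₂ v
    rw [hv, Matrix.mulVec_zero, hw2, Matrix.toLinAlgEquiv'_apply, Matrix.neg_mulVec, Matrix.add_mulVec] at h1
    have h1' : (-(B₁ *ᵥ v + (2 : F) • v)) = -(2 : F) • v := by
      apply e₂.injective
      rw [map_smul e₂, hv, Prod.smul_mk, smul_zero, ← h1]
      congr 2
      rw [show (2 : Matrix (Fin c₁) (Fin c₁) F) = (2 : F) • 1 by rw [two_smul]; norm_num, Matrix.smul_mulVec,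
        Matrix.one_mulVec]
    have hB1 : B₁ *ᵥ v = 0 := by
      rw [neg_smul, neg_inj] at h1'
      exact add_eq_right.1 h1'
    refine hB₁ (Matrix.exists_mulVec_eq_zero_iff.1 ⟨v, fun hv0 => hw ?_, hB1⟩)
    rw [hv0, map_zero] at hv
    exact (congrArg Prod.snd hv).symm
  have hGp : (G + 1).det ≠ 0 := by
    rw [hG, show -(B₂ + 1) + 1 = -B₂ by abel, det_neg]
    exact mul_ne_zero (pow_ne_zero _ (by simp)) hB₂
  let E : (Fin m ⊕ Fin m → F) ≃ₗ[F] (((Pos (blocks μ) ⊕ Pos (blocks ν)) ⊕ Fin c₂) → F) :=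
    ((e₁.trans ((LinearEquiv.refl F _).prodCongr e₂)).trans (LinearEquiv.prodAssoc F _ _ _).symm).trans
      (((LinearEquiv.sumArrowLequivProdArrow _ _ F F).symm.prodCongr (LinearEquiv.refl F _)).trans
        (LinearEquiv.sumArrowLequivProdArrow _ _ F F).symm)
  have hE : ∀ v, E (A *ᵥ v) =
      big (jordanTypeMatrix (blocks μ) F) (-jordanTypeMatrix (blocks ν) F) G *ᵥ E v := by
    intro v
    have h1 : e₁ (A *ᵥ v) = (jordanTypeMatrix (blocks μ) F *ᵥ (e₁ v).1, (B₁ + 1) *ᵥ (e₁ v).2) := by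
      have h := he₁ v
      rw [Matrix.toLinAlgEquiv'_apply, Matrix.sub_mulVec, Matrix.one_mulVec, map_sub, sub_eq_iff_eq_add] at h
      rw [h]
      refine Prod.ext ?_ ?_
      · show (jordanTypeMatrix (blocks μ) F - 1) *ᵥ (e₁ v).1 + (e₁ v).1 = _
        rw [Matrix.sub_mulVec, Matrix.one_mulVec, sub_add_cancel]
      · show B₁ *ᵥ (e₁ v).2 + (e₁ v).2 = _
        rw [Matrix.add_mulVec, Matrix.one_mulVec]
    have h3 : ∀ w, e₂ ((B₁ + 1) *ᵥ w) =
        ((-jordanTypeMatrix (blocks ν) F) *ᵥ (e₂ w).1, G *ᵥ (e₂ w).2) := by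
      intro w
      have h := he₂ w
      rw [Matrix.toLinAlgEquiv'_apply] at h
      have e : (B₁ + 1) *ᵥ w = -((-(B₁ + 2)) *ᵥ w) - w := by
        have hh : (B₁ + 2) *ᵥ w = B₁ *ᵥ w + w + w := by
          rw [← one_add_one_eq_two, Matrix.add_mulVec, Matrix.add_mulVec, Matrix.one_mulVec]
          abel
        rw [Matrix.neg_mulVec, neg_neg, hh, Matrix.add_mulVec, Matrix.one_mulVec]
        abel
      rw [e, map_sub, map_neg, h]
      refine Prod.ext ?_ ?_
      · show -((jordanTypeMatrix (blocks ν) F - 1) *ᵥ (e₂ w).1) - (e₂ w).1 = _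
        rw [Matrix.sub_mulVec, Matrix.one_mulVec, Matrix.neg_mulVec]
        abel
      · show -(B₂ *ᵥ (e₂ w).2) - (e₂ w).2 = G *ᵥ (e₂ w).2
        rw [hG, Matrix.neg_mulVec, Matrix.add_mulVec, Matrix.one_mulVec]
        abel
    simp only [E, LinearEquiv.trans_apply, LinearEquiv.prodCongr_apply, LinearEquiv.refl_apply, h1, h3, big]
    funext i
    rcases i with (i | i) | i <;>
      simp [Matrix.fromBlocks_mulVec, LinearEquiv.prodAssoc, LinearEquiv.sumArrowLequivProdArrow,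
        Equiv.sumArrowEquivProdArrow, Function.comp_def]
  refine ⟨μ, ν, c₂, G, hμ, hν, hGm, hGp, ?_⟩
  obtain ⟨S, hS⟩ := exists_conj_cay h2 (blocks μ) (F := F)
  obtain ⟨S', hS'⟩ := exists_conj_cay h2 (blocks ν) (F := F)
  let C : Coords g (big (jordanTypeMatrix (blocks μ) F) (-jordanTypeMatrix (blocks ν) F) G) :=
    { T := LinearMap.toMatrix' E.symm.toLinearMap
      T' := LinearMap.toMatrix' E.toLinearMap
      hTT' := by rw [← LinearMap.toMatrix'_comp, LinearEquiv.symm_comp, LinearMap.toMatrix'_id]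
      hT'T := by rw [← LinearMap.toMatrix'_comp, LinearEquiv.comp_symm, LinearMap.toMatrix'_id]
      hG := by
        refine Matrix.ext_iff_mulVec.2 fun w => ?_
        rw [← Matrix.mulVec_mulVec, ← Matrix.mulVec_mulVec, LinearMap.toMatrix'_mulVec, LinearMap.toMatrix'_mulVec]
        obtain ⟨v, rfl⟩ := E.surjective w
        show A *ᵥ E.symm (E v) = E.symm _
        rw [E.symm_apply_apply, ← hE, E.symm_apply_apply] }
  let U : (Matrix ((Pos (blocks μ) ⊕ Pos (blocks ν)) ⊕ Fin c₂) ((Pos (blocks μ) ⊕ Pos (blocks ν)) ⊕ Fin c₂) F)ˣ :=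
    ⟨big (S : Matrix (Pos (blocks μ)) (Pos (blocks μ)) F) (S' : Matrix (Pos (blocks ν)) (Pos (blocks ν)) F) 1, big (↑S⁻¹ : Matrix (Pos (blocks μ)) (Pos (blocks μ)) F) (↑S'⁻¹ : Matrix (Pos (blocks ν)) (Pos (blocks ν)) F) 1,
      by rw [big_mul, Units.mul_inv, Units.mul_inv, Matrix.one_mul, big_one],
      by rw [big_mul, Units.inv_mul, Units.inv_mul, Matrix.one_mul, big_one]⟩
  refine ⟨Coords.conj' C U ?_⟩
  show big (S : Matrix (Pos (blocks μ)) (Pos (blocks μ)) F) (S' : Matrix (Pos (blocks ν)) (Pos (blocks ν)) F) 1 * std _ _ _ = _ * big (S : Matrix (Pos (blocks μ)) (Pos (blocks μ)) F) (S' : Matrix (Pos (blocks ν)) (Pos (blocks ν)) F) 1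
  rw [std, big_mul, big_mul, hS, Matrix.mul_neg, hS', Matrix.neg_mul, Matrix.one_mul, Matrix.mul_one]

/-! ### The forms -/

theorem isNilpotent_cay_sub_one (h2 : (2 : F) ≠ 0) {t : ℕ} (d : Fin t → ℕ) : IsNilpotent (cay (F := F) d - 1) :=
  (IsNilpotent.map_iff Matrix.toLinAlgEquiv'.injective).1
    ((UnipForms.isConj_jordan_iff d (Equiv.refl (Pos d)) (cay (F := F) d)).1 (isConj_cay d h2)).1

theorem isUnit_det_neg_cay_sub_one (h2 : (2 : F) ≠ 0) {t : ℕ} (d : Fin t → ℕ) :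
    IsUnit (-cay (F := F) d - 1).det := by
  have h : IsUnit ((-2 : F) • (1 : Matrix (Pos d) (Pos d) F) + -(cay d - 1)) := by
    refine IsNilpotent.isUnit_add_left_of_commute (isNilpotent_cay_sub_one h2 d).neg ?_ ?_
    · rw [← Algebra.algebraMap_eq_smul_one]
      exact (IsUnit.mk0 _ (neg_ne_zero.2 h2)).map (algebraMap F _)
    · exact (Commute.one_right _).smul_right _
  rw [← Matrix.isUnit_iff_isUnit_det]
  convert h using 1
  rw [neg_smul, two_smul]
  abel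

/-- An invariant form is block diagonal. -/
theorem form_blocks (h2 : (2 : F) ≠ 0) {t s c : ℕ} {d : Fin t → ℕ} {d' : Fin s → ℕ} {G : Matrix (Fin c) (Fin c) F}
    (hm : (G - 1).det ≠ 0) (hp : (G + 1).det ≠ 0)
    {Y : Matrix ((Pos d ⊕ Pos d') ⊕ Fin c) ((Pos d ⊕ Pos d') ⊕ Fin c) F} (hY : Yᵀ = -Y) (hYd : Y.det ≠ 0)
    (hinv : (std d d' G)ᵀ * Y * std d d' G = Y) :
    ∃ (Yp : Matrix (Pos d) (Pos d) F) (Ym : Matrix (Pos d') (Pos d') F) (Y₀ : Matrix (Fin c) (Fin c) F),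
      Y = big Yp Ym Y₀ ∧ IsForm d Yp ∧ IsForm d' Ym ∧ Y₀ᵀ = -Y₀ ∧ Y₀.det ≠ 0 ∧ Gᵀ * Y₀ * G = Y₀ := by
  obtain ⟨P, Q, R, S, rfl⟩ : ∃ P Q R S, Y = fromBlocks P Q R S :=
    ⟨_, _, _, _, (fromBlocks_toBlocks Y).symm⟩
  obtain ⟨P₁, P₂, P₃, P₄, rfl⟩ : ∃ P₁ P₂ P₃ P₄, P = fromBlocks P₁ P₂ P₃ P₄ :=
    ⟨_, _, _, _, (fromBlocks_toBlocks P).symm⟩
  obtain ⟨Q₁, Q₂, rfl⟩ : ∃ (Q₁ : Matrix (Pos d) (Fin c) F) (Q₂ : Matrix (Pos d') (Fin c) F), Q = fromRows Q₁ Q₂ :=
    ⟨_, _, (fromRows_toRows Q).symm⟩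
  rw [std, big, fromBlocks_transpose, fromBlocks_transpose, fromBlocks_multiply, fromBlocks_multiply] at hinv
  simp only [transpose_zero, Matrix.zero_mul, Matrix.mul_zero, add_zero, zero_add, fromBlocks_multiply,
    fromBlocks_mul_fromRows, fromBlocks_inj] at hinv
  obtain ⟨⟨h11, h12, h21, h22⟩, h13, -, h33⟩ := hinv
  rw [fromRows_mul] at h13
  replace h13 := fromRows_inj h13
  have hP2 : P₂ = 0 := eq_zero_of_invariant (isNilpotent_cay_sub_one h2 d) (isUnit_det_neg_cay_sub_one h2 d') h12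
  have hQ1 : Q₁ = 0 := eq_zero_of_invariant (isNilpotent_cay_sub_one h2 d) (isUnit_iff_ne_zero.2 hm) h13.1
  have hQ2 : Q₂ = 0 := by
    refine eq_zero_of_invariant (A₂ := -G) (isNilpotent_cay_sub_one h2 d') ?_ ?_
    · rw [show -G - 1 = -(G + 1) by abel, det_neg]
      exact isUnit_iff_ne_zero.2 (mul_ne_zero (pow_ne_zero _ (by simp)) hp)
    · have := h13.2
      rw [transpose_neg, Matrix.neg_mul, Matrix.neg_mul] at this
      rwa [Matrix.mul_neg]
  rw [fromBlocks_transpose, fromBlocks_transpose, fromBlocks_neg, fromBlocks_neg, fromBlocks_inj, fromBlocks_inj] at hY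
  obtain ⟨⟨hY1, hY2, hY3, hY4⟩, hY5, hY6, hY7⟩ := hY
  have hP3 : P₃ = 0 := by
    have := congrArg transpose hY2
    rw [transpose_transpose, transpose_neg, hP2, transpose_zero, neg_zero] at this
    exact this
  have hR : R = 0 := by
    have := congrArg transpose hY5
    rw [transpose_transpose, transpose_neg, hQ1, hQ2, fromRows_zero, transpose_zero, neg_zero] at this
    exact this
  subst hP2 hP3 hQ1 hQ2 hR
  rw [fromRows_zero] at hYd ⊢
  rw [show fromBlocks (fromBlocks P₁ 0 0 P₄) 0 0 S = big P₁ P₄ S from rfl] at hYd ⊢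
  rw [big_det] at hYd
  obtain ⟨⟨hd1, hd4⟩, hdS⟩ : (P₁.det ≠ 0 ∧ P₄.det ≠ 0) ∧ S.det ≠ 0 := by
    rw [mul_ne_zero_iff, mul_ne_zero_iff] at hYd; exact hYd
  exact ⟨P₁, P₄, S, rfl, ⟨hY1, hd1, (cay_invariant_iff d h2 _).1 h11⟩,
    ⟨hY4, hd4, (cay_invariant_iff d' h2 _).1 (by simpa using h22)⟩, hY7, hdS, h33⟩

/-- Without eigenvalues `1` and `-1`, all invariant forms are congruent under the centraliser. -/
theorem exists_congr_noUnit [Fintype F] (h2 : (2 : F) ≠ 0) {G Y Y' : Matrix κ κ F} (hm : (G - 1).det ≠ 0)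
    (hp : (G + 1).det ≠ 0) (hY : Yᵀ = -Y) (hYd : Y.det ≠ 0) (hG : Gᵀ * Y * G = Y) (hY' : Y'ᵀ = -Y')
    (hY'd : Y'.det ≠ 0) (hG' : Gᵀ * Y' * G = Y') : ∃ c, c * G = G * c ∧ cᵀ * Y * c = Y' := by
  classical
  have hGd : IsUnit G.det := by
    refine isUnit_iff_ne_zero.2 fun h0 => hYd ?_
    rw [← hG, det_mul, h0, mul_zero]
  have hYu : IsUnit Y.det := isUnit_iff_ne_zero.2 hYd
  have hGYi : Gᵀ * Y = Y * G⁻¹ := by
    calc Gᵀ * Y = Gᵀ * Y * G * G⁻¹ := by rw [Matrix.mul_assoc _ G, Matrix.mul_nonsing_inv _ hGd, Matrix.mul_one]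
      _ = Y * G⁻¹ := by rw [hG]
  have hGY'i : Gᵀ * Y' = Y' * G⁻¹ := by
    calc Gᵀ * Y' = Gᵀ * Y' * G * G⁻¹ := by rw [Matrix.mul_assoc _ G, Matrix.mul_nonsing_inv _ hGd, Matrix.mul_one]
      _ = Y' * G⁻¹ := by rw [hG']
  have hGiY : G⁻¹ᵀ * Y = Y * G := by
    calc G⁻¹ᵀ * Y = G⁻¹ᵀ * (Gᵀ * Y * G) := by rw [hG]
      _ = (G * G⁻¹)ᵀ * Y * G := by rw [transpose_mul]; simp only [Matrix.mul_assoc]
      _ = Y * G := by rw [Matrix.mul_nonsing_inv _ hGd, transpose_one, Matrix.one_mul]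
  set M := Y⁻¹ * Y' with hMdef
  have hMG : Commute M G := by
    have h1 : G⁻¹ * M = M * G⁻¹ := by
      calc G⁻¹ * M = Y⁻¹ * (Y * G⁻¹) * M := by
            rw [← Matrix.mul_assoc Y⁻¹, Matrix.nonsing_inv_mul _ hYu, Matrix.one_mul]
        _ = Y⁻¹ * (Gᵀ * (Y * Y⁻¹) * Y') := by rw [← hGYi, hMdef]; simp only [Matrix.mul_assoc]
        _ = Y⁻¹ * (Gᵀ * Y') := by rw [Matrix.mul_nonsing_inv _ hYu, Matrix.mul_one]
        _ = M * G⁻¹ := by rw [hGY'i, hMdef, Matrix.mul_assoc]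
    show M * G = G * M
    calc M * G = G * (G⁻¹ * M) * G := by rw [← Matrix.mul_assoc, Matrix.mul_nonsing_inv _ hGd, Matrix.one_mul]
      _ = G * M := by rw [h1, Matrix.mul_assoc, Matrix.mul_assoc, Matrix.nonsing_inv_mul _ hGd, Matrix.mul_one]
  have hMGi : Commute M G⁻¹ := by
    show M * G⁻¹ = G⁻¹ * M
    calc M * G⁻¹ = G⁻¹ * (G * M) * G⁻¹ := by rw [← Matrix.mul_assoc, Matrix.nonsing_inv_mul _ hGd, Matrix.one_mul]
      _ = G⁻¹ * M := by rw [← hMG.eq, Matrix.mul_assoc, Matrix.mul_assoc, Matrix.mul_nonsing_inv _ hGd, Matrix.mul_one]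
  set z := G - G⁻¹ with hz
  have hGz : Commute z G := by
    refine Commute.sub_left (Commute.refl G) ?_
    show G⁻¹ * G = G * G⁻¹
    rw [Matrix.nonsing_inv_mul _ hGd, Matrix.mul_nonsing_inv _ hGd]
  have hMz : Commute M z := hMG.sub_right hMGi
  have hzu : IsUnit z.det := by
    have e : z = G⁻¹ * ((G - 1) * (G + 1)) := by
      rw [hz, sub_mul, Matrix.one_mul, mul_add, Matrix.mul_one, mul_sub, mul_add, Matrix.nonsing_inv_mul _ hGd,
        ← Matrix.mul_assoc, Matrix.nonsing_inv_mul _ hGd, Matrix.one_mul, mul_add, Matrix.mul_one,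
        Matrix.nonsing_inv_mul _ hGd]
      abel
    rw [e, det_mul, det_mul]
    exact (Matrix.isUnit_nonsing_inv_det _ hGd).mul
      ((isUnit_iff_ne_zero.2 hm).mul (isUnit_iff_ne_zero.2 hp))
  have hzY : zᵀ * Y = -(Y * z) := by
    rw [hz, transpose_sub, Matrix.sub_mul, hGYi, hGiY, mul_sub, neg_sub]
  have hMY : Mᵀ * Y = Y * M := by
    rw [hMdef, transpose_mul, hY', Matrix.mul_assoc,
      show (Y⁻¹)ᵀ * Y = -(Y⁻¹ᵀ * Yᵀ) by rw [hY, Matrix.mul_neg, neg_neg], ← transpose_mul,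
      Matrix.mul_nonsing_inv _ hYu, transpose_one, Matrix.mul_neg, Matrix.mul_one, neg_neg, ← Matrix.mul_assoc,
      Matrix.mul_nonsing_inv _ hYu, Matrix.one_mul]
  -- the commutative ring of symmetric elements
  let S : Set (Matrix κ κ F) := {M, z * z}
  have hS : ∀ A ∈ S, ∀ B ∈ S, A * B = B * A := by
    rintro A (rfl | rfl) B (rfl | rfl)
    · rfl
    · exact (hMz.mul_right hMz).eq
    · exact (hMz.mul_right hMz).eq.symm
    · rfl
  letI := Subring.closureCommRingOfComm hS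
  have hcl : ∀ a b : Subring.closure S, (a.1 * b.1 : Matrix κ κ F) = b.1 * a.1 := fun a b =>
    congrArg Subtype.val (mul_comm a b)
  have hprop : ∀ A, A ∈ Subring.closure S → Aᵀ * Y = Y * A ∧ Commute A G ∧ Commute A z := by
    intro A hA
    induction hA using Subring.closure_induction with
    | mem A hA =>
      rcases hA with rfl | rfl
      · exact ⟨hMY, hMG, hMz⟩
      · refine ⟨?_, hGz.mul_left hGz, (Commute.refl z).mul_left (Commute.refl z)⟩
        rw [transpose_mul, Matrix.mul_assoc, hzY, Matrix.mul_neg, ← Matrix.mul_assoc, hzY, Matrix.neg_mul, neg_neg,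
          Matrix.mul_assoc]
    | zero => exact ⟨by simp, Commute.zero_left _, Commute.zero_left _⟩
    | one => exact ⟨by simp, Commute.one_left _, Commute.one_left _⟩
    | add A B _ _ hA hB =>
      exact ⟨by rw [transpose_add, Matrix.add_mul, hA.1, hB.1, Matrix.mul_add], hA.2.1.add_left hB.2.1, hA.2.2.add_left hB.2.2⟩
    | neg A _ hA => exact ⟨by rw [transpose_neg, Matrix.neg_mul, hA.1, Matrix.mul_neg], hA.2.1.neg_left, hA.2.2.neg_left⟩
    | mul A B hAm hBm hA hB =>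
      refine ⟨?_, hA.2.1.mul_left hB.2.1, hA.2.2.mul_left hB.2.2⟩
      rw [transpose_mul, Matrix.mul_assoc, hA.1, ← Matrix.mul_assoc, hB.1, Matrix.mul_assoc]
      exact congrArg (Y * ·) (hcl ⟨B, hBm⟩ ⟨A, hAm⟩)
  have hunit : ∀ x : Subring.closure S, IsUnit (x : Matrix κ κ F) → IsUnit x := by
    rintro x ⟨u, hu⟩
    refine IsUnit.of_mul_eq_one (x ^ (orderOf u - 1)) (Subtype.ext ?_)
    push_cast
    rw [← pow_succ', Nat.sub_add_cancel (orderOf_pos u), ← hu, ← Units.val_pow_eq_pow_val,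
      pow_orderOf_eq_one, Units.val_one]
  set w : Subring.closure S := ⟨z * z, Subring.subset_closure (Or.inr rfl)⟩ with hw
  have hMu : IsUnit (⟨M, Subring.subset_closure (Or.inl rfl)⟩ : Subring.closure S) := hunit _ (by
    rw [Matrix.isUnit_iff_isUnit_det]
    show IsUnit M.det
    rw [hMdef, det_mul]
    exact (Matrix.isUnit_nonsing_inv_det _ hYu).mul (isUnit_iff_ne_zero.2 hY'd))
  have hd : IsUnit ((0 : Subring.closure S) * 0 - 4 * -w) := hunit _ (by
    push_cast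
    rw [Matrix.mul_zero, zero_sub, mul_neg, neg_neg, hw,
      show (((4 : Subring.closure S)) : Matrix κ κ F) = 4 from map_ofNat (Subring.closure S).subtype 4,
      show (4 : Matrix κ κ F) * (z * z) = (4 : F) • (z * z) by
        rw [Algebra.smul_def]; simp [map_ofNat],
      Matrix.isUnit_iff_isUnit_det, det_smul, det_mul]
    exact ((IsUnit.mk0 _ (by rw [show (4 : F) = 2 * 2 by norm_num]; exact mul_ne_zero h2 h2)).pow _).mul
      (hzu.mul hzu))
  obtain ⟨a, b, hab⟩ := UnitaryConj.exists_norm_eq hd hMu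
  have hab' : (a : Matrix κ κ F) * a - z * z * (b : Matrix κ κ F) * (b : Matrix κ κ F) = M := by
    have h := congrArg Subtype.val hab
    simpa [hw, sub_eq_add_neg, Matrix.neg_mul] using h
  obtain ⟨haY, haG, haz⟩ := hprop _ a.2
  obtain ⟨hbY, hbG, hbz⟩ := hprop _ b.2
  refine ⟨(a : Matrix κ κ F) + z * (b : Matrix κ κ F), (haG.add_left (hGz.mul_left hbG)).eq, ?_⟩
  have hct : ((a : Matrix κ κ F) + z * (b : Matrix κ κ F))ᵀ * Y = Y * ((a : Matrix κ κ F) - z * (b : Matrix κ κ F)) := by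
    rw [transpose_add, transpose_mul, Matrix.add_mul, haY, Matrix.mul_assoc, hzY, Matrix.mul_neg, ← Matrix.mul_assoc,
      hbY, Matrix.mul_assoc, hbz.eq, Matrix.mul_sub, sub_eq_add_neg]
  have hprod : ((a : Matrix κ κ F) - z * (b : Matrix κ κ F)) * ((a : Matrix κ κ F) + z * (b : Matrix κ κ F)) = M := by
    rw [← hab', sub_mul, mul_add, mul_add]
    have e1 : (a : Matrix κ κ F) * (z * (b : Matrix κ κ F)) = z * (b : Matrix κ κ F) * (a : Matrix κ κ F) := by
      rw [← Matrix.mul_assoc, haz.eq, Matrix.mul_assoc, hcl a b, ← Matrix.mul_assoc]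
    have e2 : z * (b : Matrix κ κ F) * (z * (b : Matrix κ κ F)) = z * z * (b : Matrix κ κ F) * (b : Matrix κ κ F) := by
      rw [Matrix.mul_assoc z, ← Matrix.mul_assoc (b : Matrix κ κ F), hbz.eq]
      simp only [Matrix.mul_assoc]
    rw [e1, e2]
    abel
  rw [hct, Matrix.mul_assoc, hprod, hMdef, ← Matrix.mul_assoc, Matrix.mul_nonsing_inv _ hYu, Matrix.one_mul]

/-- Elements with the same standard matrix are conjugate if the discriminants agree. -/
theorem isConj_of_sq [Fintype F] (p : ℕ) [Fact p.Prime] [CharP F p] (hp2 : p ≠ 2) (h2 : (2 : F) ≠ 0)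
    {t s c : ℕ} {d : Fin t → ℕ} {d' : Fin s → ℕ} (hd : ∀ k, 1 ≤ d k) (hd' : ∀ k, 1 ≤ d' k)
    {G : Matrix (Fin c) (Fin c) F} (hm : (G - 1).det ≠ 0) (hp : (G + 1).det ≠ 0)
    {g h : Matrix.symplecticGroup (Fin m) F} (C : Coords g (std d d' G)) (D : Coords h (std d d' G))
    {Yp Yp' : Matrix (Pos d) (Pos d) F} {Ym Ym' : Matrix (Pos d') (Pos d') F} {Y₀ Y₀' : Matrix (Fin c) (Fin c) F}
    (hC : C.form = big Yp Ym Y₀) (hD : D.form = big Yp' Ym' Y₀') (hYp : IsForm d Yp) (hYp' : IsForm d Yp')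
    (hYm : IsForm d' Ym) (hYm' : IsForm d' Ym') (hY₀ : Y₀ᵀ = -Y₀) (hY₀d : Y₀.det ≠ 0) (hG : Gᵀ * Y₀ * G = Y₀)
    (hY₀' : Y₀'ᵀ = -Y₀') (hY₀'d : Y₀'.det ≠ 0) (hG' : Gᵀ * Y₀' * G = Y₀')
    (hsp : ∀ a, Even a → (IsSquare (leadForm d hd Yp a).det ↔ IsSquare (leadForm d hd Yp' a).det))
    (hsm : ∀ a, Even a → (IsSquare (leadForm d' hd' Ym a).det ↔ IsSquare (leadForm d' hd' Ym' a).det)) :
    IsConj g h := by
  obtain ⟨c₁, h1, -, e1⟩ := exists_congr_forms d hd p hp2 h2 hYp hYp' hsp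
  obtain ⟨c₂, h3, -, e2⟩ := exists_congr_forms d' hd' p hp2 h2 hYm hYm' hsm
  obtain ⟨c₀, h5, e0⟩ := exists_congr_noUnit h2 hm hp hY₀ hY₀d hG hY₀' hY₀'d hG'
  refine isConj_of_congr C D (big c₁ c₂ c₀) ?_ ?_
  · rw [std, big_mul, big_mul, (commute_cay_iff d h2 c₁).2 h1, Matrix.mul_neg, (commute_cay_iff d' h2 c₂).2 h3,
      Matrix.neg_mul, h5]
  · rw [hC, hD, big_transpose, big_mul, big_mul, e1, e2, e0]

end Cfsg.Agent.UnipForms.SympDecomp
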