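/-
Standard symmetric forms for a nilpotent block matrix, and the involutions negating blocks of odd size.
-/
import Cfsg.Agent.Lib.UnipForms.SymLeading

set_option autoImplicit false
set_option linter.unusedSectionVars false

open Matrix

namespace Cfsg.Agent.UnipForms.SymStd

open Cfsg.Agent.UnipCentralizer Cfsg.Agent.UnipCentralizer.Unitary Cfsg.Agent.UnipCentralizer.Leading
open Cfsg.Agent.UnipForms.SymLeading

variable {F : Type*} [Field F] {t : ℕ} (d : Fin t → ℕ)

/-- The form with leading forms `G` and nothing else. -/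
def stdForm (G : ∀ a, Matrix (Blk d a) (Blk d a) F) : Matrix (Pos d) (Pos d) F :=
  Matrix.of fun p r => sgn d p * constMat d (glue d G) (rev d p) r

theorem toX_stdForm (G : ∀ a, Matrix (Blk d a) (Blk d a) F) : toX d (stdForm d G) = constMat d (glue d G) := by
  ext p r
  simp only [toX, stdForm, Matrix.of_apply, rev_rev, ← mul_assoc, sgn_mul_self, one_mul]

theorem stdForm_spec (hd : ∀ k, 1 ≤ d k) (G : ∀ a, Matrix (Blk d a) (Blk d a) F) (hdet : ∀ a, (G a).det ≠ 0)
    (hsym : ∀ a, (G a)ᵀ = (-1 : F) ^ (a + 1) • G a) :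
    IsSymForm d (stdForm d G) ∧ ∀ a, leadForm d hd (stdForm d G) a = G a := by
  have hX := toX_stdForm d G
  have hlead : ∀ a, lead d hd (constMat d (glue d G)) a = G a := lead_constMat d hd G
  refine ⟨⟨?_, ?_, ?_⟩, fun a => by rw [← lead_toX, hX, hlead]⟩
  · ext ⟨l, i⟩ ⟨k, j⟩
    simp only [stdForm, Matrix.transpose_apply, Matrix.of_apply, constMat, rev_snd, rev_fst, sgn]
    have := i.isLt
    have := j.isLt
    by_cases hdd : d l = d k
    · by_cases hij : (i : ℕ) + (j : ℕ) + 1 = d l
      · rw [if_pos ⟨by omega, hdd.symm⟩, if_pos ⟨by omega, hdd⟩]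
        have h := congrFun (congrFun (hsym (d l)) ⟨l, rfl⟩) ⟨k, hdd.symm⟩
        simp only [Matrix.transpose_apply, Matrix.smul_apply, smul_eq_mul] at h
        rw [← glue_apply d G ⟨k, hdd.symm⟩ ⟨l, rfl⟩, ← glue_apply d G ⟨l, rfl⟩ ⟨k, hdd.symm⟩] at h
        dsimp only at h
        have hpow : ((-1 : F) ^ (j : ℕ) * (-1) ^ (d l + 1)) = (-1) ^ (i : ℕ) := by
          rw [← pow_add, show (j : ℕ) + (d l + 1) = (i : ℕ) + 2 * ((j : ℕ) + 1) by omega, pow_add,
            pow_mul, neg_one_sq, one_pow, mul_one]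
        rw [h, ← mul_assoc, hpow]
      · rw [if_neg fun e => hij (by omega), if_neg fun e => hij (by omega)]
        simp
    · rw [if_neg fun e => hdd e.2.symm, if_neg fun e => hdd e.2]
      simp
  · rw [← det_toX_ne_zero_iff, hX, det_ne_zero_iff d hd (inComm_constMat d _)]
    exact fun a => by rw [hlead]; exact hdet a
  · rw [← inComm_toX_iff, hX]
    exact inComm_constMat d _

/-- Leading forms: diagonal `w` at odd sizes, prescribed at even sizes. -/
def mixed (w : Fin t → F) (E : ∀ a, Matrix (Blk d a) (Blk d a) F) (a : ℕ) : Matrix (Blk d a) (Blk d a) F :=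
  if Odd a then Matrix.diagonal (fun k => w k.1) else E a

theorem glue_mixed (w : Fin t → F) (E : ∀ a, Matrix (Blk d a) (Blk d a) F) {l k : Fin t} (h : d k = d l)
    (ho : Odd (d l)) : glue d (mixed d w E) l k = if l = k then w l else 0 := by
  rw [glue, dif_pos h, mixed, if_pos ho, Matrix.diagonal_apply]
  simp only [Subtype.mk.injEq]

/-- A diagonal matrix constant on blocks is in the commutant. -/
theorem inComm_diagonal (f : Fin t → F) : InComm d (Matrix.diagonal fun p : Pos d => f p.1) := by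
  rw [inComm_iff]
  ext p q
  rw [Matrix.diagonal_mul, Matrix.mul_diagonal, Nil, jordan_sub_one_apply]
  split_ifs with h
  · rw [h.1]; ring
  · ring

/-- Off the block diagonal the form vanishes on blocks of odd size. -/
theorem stdForm_eq_zero (w : Fin t → F) (E : ∀ a, Matrix (Blk d a) (Blk d a) F) {p r : Pos d} (hne : p.1 ≠ r.1)
    (ho : Odd (d p.1) ∨ Odd (d r.1)) : stdForm d (mixed d w E) p r = 0 := by
  show sgn d p * (if ((rev d p).2 : ℕ) = r.2 ∧ d p.1 = d r.1 then glue d (mixed d w E) p.1 r.1 else 0) = 0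
  by_cases h : ((rev d p).2 : ℕ) = r.2 ∧ d p.1 = d r.1
  · rw [if_pos h]
    have hodd : Odd (d p.1) := ho.elim id fun hr => h.2 ▸ hr
    rw [glue_mixed d w E h.2.symm hodd, if_neg hne, mul_zero]
  · rw [if_neg h, mul_zero]

/-- Negating blocks of odd size preserves the standard form. -/
theorem conj_sign_eq (w : Fin t → F) (E : ∀ a, Matrix (Blk d a) (Blk d a) F) (B : Fin t → Prop) [DecidablePred B]
    (hB : ∀ k, B k → Odd (d k)) :
    Matrix.diagonal (fun p : Pos d => if B p.1 then (-1 : F) else 1) * stdForm d (mixed d w E) *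
      Matrix.diagonal (fun p : Pos d => if B p.1 then (-1 : F) else 1) = stdForm d (mixed d w E) := by
  ext p r
  rw [Matrix.mul_diagonal, Matrix.diagonal_mul]
  by_cases h : p.1 = r.1
  · rw [h]; split_ifs <;> ring
  · by_cases hp : B p.1 ∨ B r.1
    · rw [stdForm_eq_zero d w E h (hp.imp (hB _) (hB _))]; ring
    · simp only [not_or] at hp
      rw [if_neg hp.1, if_neg hp.2]; ring

/-- Scaling blocks of odd size. -/
theorem stdForm_scale (w : Fin t → F) (E : ∀ a, Matrix (Blk d a) (Blk d a) F) (v : Fin t → F)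
    (hv : ∀ k, ¬Odd (d k) → v k = 1) :
    stdForm d (mixed d (fun k => w k * v k) E) = stdForm d (mixed d w E) * Matrix.diagonal (fun p : Pos d => v p.1) := by
  ext p r
  rw [Matrix.mul_diagonal]
  show sgn d p * (if ((rev d p).2 : ℕ) = r.2 ∧ d p.1 = d r.1 then
      glue d (mixed d (fun k => w k * v k) E) p.1 r.1 else 0) =
    sgn d p * (if ((rev d p).2 : ℕ) = r.2 ∧ d p.1 = d r.1 then glue d (mixed d w E) p.1 r.1 else 0) * v r.1
  by_cases h : ((rev d p).2 : ℕ) = r.2 ∧ d p.1 = d r.1
  · rw [if_pos h, if_pos h]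
    rcases Nat.even_or_odd (d p.1) with he | ho
    · rw [hv r.1 (by rw [← h.2]; exact Nat.not_odd_iff_even.2 he), mul_one]
      simp only [glue, dif_pos h.2.symm, mixed, if_neg (Nat.not_odd_iff_even.2 he)]
    · rw [glue_mixed d _ E h.2.symm ho, glue_mixed d w E h.2.symm ho]
      by_cases e : p.1 = r.1
      · rw [if_pos e, if_pos e, e]; ring
      · rw [if_neg e, if_neg e]; ring
  · rw [if_neg h, if_neg h]; ring

/-- A form is congruent to the standard forms with leading discriminants in the same square classes. -/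
theorem exists_congr_std [Fintype F] (p : ℕ) [Fact p.Prime] [CharP F p] (hp : p ≠ 2) (h2 : (2 : F) ≠ 0)
    (hd : ∀ k, 1 ≤ d k) {Y : Matrix (Pos d) (Pos d) F} (hY : IsSymForm d Y) (w : Fin t → F) (hw : ∀ k, w k ≠ 0)
    (hsq : ∀ a, Odd a → IsSquare ((leadForm d hd Y a).det * ∏ k : Blk d a, w k.1)) :
    ∃ c, InComm d c ∧ c.det ≠ 0 ∧ cᵀ * Y * c = stdForm d (mixed d w fun a => leadForm d hd Y a) := by
  have hdet : ∀ a, (mixed d w (fun a => leadForm d hd Y a) a).det ≠ 0 := fun a => by
    unfold mixed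
    split_ifs
    · rw [Matrix.det_diagonal]; exact Finset.prod_ne_zero_iff.2 fun k _ => hw k.1
    · exact hY.det_leadForm hd a
  obtain ⟨hY', hl⟩ := stdForm_spec d hd (mixed d w fun a => leadForm d hd Y a) hdet fun a => by
    unfold mixed
    split_ifs with h
    · rw [Matrix.diagonal_transpose, h.add_one.neg_one_pow, one_smul]
    · exact hY.leadForm_transpose hd a
  refine Cfsg.Agent.UnipForms.SymLeading.exists_congr_forms hd p hp h2 hY hY' fun a ha => ?_
  rw [hl, mixed, if_pos ha, Matrix.det_diagonal]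
  have hx := hY.det_leadForm hd a
  have hy : (∏ k : Blk d a, w k.1) ≠ 0 := Finset.prod_ne_zero_iff.2 fun k _ => hw k.1
  constructor
  · intro hs
    have := (hsq a ha).mul hs.inv
    rwa [show (leadForm d hd Y a).det * (∏ k : Blk d a, w k.1) * (leadForm d hd Y a).det⁻¹ = ∏ k : Blk d a, w k.1 by
      field_simp] at this
  · intro hs
    have := (hsq a ha).mul hs.inv
    rwa [mul_assoc, mul_inv_cancel₀ hy, mul_one] at this

end Cfsg.Agent.UnipForms.SymStd
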